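import Groth.Agent.Lib.EtPic3.MaxPoint
import Groth.Agent.Lib.EtPic3.PushPoint

/-!
# Direct images from a point
-/

set_option autoImplicit false
set_option linter.style.haveILetI false
set_option backward.isDefEq.respectTransparency false
set_option backward.isDefEq.respectTransparency.types false
set_option maxHeartbeats 1000000

universe u

open CategoryTheory CategoryTheory.Limits AlgebraicGeometry Opposite
open Groth.Agent.EtStalk
open Groth.Agent.EtPic3 (hom_fibPt exists_fib_sub)

namespace Groth.Agent.DimFn3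

variable {X : Scheme.{u}} (η : X)

local notation "jη" => X.fromSpecResidueField η

theorem hom_bcFst (V : X.Etale) (z : ((EtCoh.bc jη).obj V).left) : V.hom (bcFst jη V z) = η := by
  rw [show V.hom (bcFst jη V z) = jη (pullback.snd V.hom jη z) from
    (Scheme.Hom.comp_apply _ _ _).symm.trans ((congrArg (fun t : pullback V.hom jη ⟶ X => t z)
      pullback.condition).trans (Scheme.Hom.comp_apply _ _ _))]
  exact Scheme.fromSpecResidueField_apply η _

theorem exists_lift_point (Ω : Type u) [Field Ω] [IsSepClosed Ω] (ξ : Spec (CommRingCat.of Ω) ⟶ X)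
    (hξ : ξ (default : Spec (CommRingCat.of Ω)) = η) :
    ∃ ζ : Spec (CommRingCat.of Ω) ⟶ Spec (X.residueField η), ζ ≫ jη = ξ := by
  have h : ξ (IsLocalRing.closedPoint Ω) = η := by
    rw [← hξ]; exact congrArg _ (Subsingleton.elim (α := Spec (CommRingCat.of Ω)) _ _)
  subst h
  exact ⟨_, Scheme.descResidueField_stalkClosedPointTo_fromSpecResidueField Ω X ξ⟩

/-- A neighbourhood of a point over `η` meeting the fibre only there. -/
theorem exists_nhd_single (V : X.Etale) (v : V.left) (hv : V.hom v = η) [QuasiSeparatedSpace X] :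
    ∃ A : V.left.Opens, v ∈ A ∧ ∀ w ∈ A, V.hom w = η → w = v := by
  obtain ⟨A, hA, hvA, -⟩ := exists_isAffineOpen_mem_and_subset (X := V.left) (x := v) (U := ⊤) trivial
  haveI : AlgebraicGeometry.Etale V.hom := V.prop
  haveI : IsAffine A.toScheme := hA
  let q : A.toScheme ⟶ X := A.ι ≫ V.hom
  haveI : AlgebraicGeometry.Etale q := MorphismProperty.comp_mem _ _ _ inferInstance V.prop
  haveI : QuasiCompact q := quasiCompact_of_compactSpace _
  haveI : LocallyQuasiFinite q := FiniteSplit.locallyQuasiFinite_of_etale q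
  have hfin : {w : V.left | w ∈ A ∧ V.hom w = η ∧ w ≠ v}.Finite := by
    refine ((q.finite_preimage_singleton η).image A.ι).subset fun w ⟨hw, hw', _⟩ => ⟨⟨w, hw⟩, ?_, rfl⟩
    exact hw'
  let T := ⋃ w ∈ {w : V.left | w ∈ A ∧ V.hom w = η ∧ w ≠ v}, closure ({w} : Set V.left)
  have hT : IsClosed T := hfin.isClosed_biUnion fun _ _ => isClosed_closure
  refine ⟨A ⊓ ⟨Tᶜ, hT.isOpen_compl⟩, ⟨hvA, fun h => ?_⟩, fun w hw hw' => ?_⟩
  · obtain ⟨w, ⟨hw, hw', hne⟩, hcl⟩ := Set.mem_iUnion₂.1 h
    have hsp : w ⤳ v := specializes_iff_mem_closure.2 hcl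
    haveI : LocallyQuasiFinite V.hom := FiniteSplit.locallyQuasiFinite_of_etale V.hom
    haveI := (V.hom.isDiscrete_preimage_singleton η).to_subtype
    have h2 : (⟨w, hw'⟩ : V.hom ⁻¹' {η}) ⤳ (⟨v, hv⟩ : V.hom ⁻¹' {η}) :=
      (Topology.IsInducing.subtypeVal.specializes_iff).1 hsp
    exact hne (congrArg Subtype.val h2.eq)
  · by_contra hne
    exact hw.2 (Set.mem_biUnion ⟨hw.1, hw', hne⟩ (subset_closure (Set.mem_singleton _)))

theorem subsingleton_bc (V : X.Etale) (v : V.left) (huniq : ∀ w : V.left, V.hom w = η → w = v) :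
    Subsingleton ((EtCoh.bc jη).obj V).left := by
  haveI : IsPreimmersion (bcFst jη V) :=
    have hg : IsPreimmersion jη := inferInstance
    MorphismProperty.pullback_fst (P := @IsPreimmersion) V.hom jη hg
  exact ⟨fun a b => (bcFst jη V).isEmbedding.injective
    ((huniq _ (hom_bcFst η V a)).trans (huniq _ (hom_bcFst η V b)).symm)⟩

theorem injective_pushStalk [QuasiSeparatedSpace X] {Ω : Type u} [Field Ω] [IsSepClosed Ω]
    (ζ : Spec (CommRingCat.of Ω) ⟶ Spec (X.residueField η)) (G : EtCoh.Ab (Spec (X.residueField η))) :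
    Function.Injective (pushStalk jη ζ G) := by
  refine (injective_iff_map_eq_zero _).2 fun p hp => ?_
  obtain ⟨V₀, x₀, s₀, rfl⟩ := germ_surjective _ _ p
  have hη : (ζ ≫ jη) (default : Spec (CommRingCat.of Ω)) = η := by
    rw [Scheme.Hom.comp_apply]
    exact Scheme.fromSpecResidueField_apply η _
  obtain ⟨A, hA, huniq⟩ := exists_nhd_single η V₀ (fibPt x₀) ((hom_fibPt x₀).trans hη)
  obtain ⟨x, hx⟩ := exists_fib_sub x₀ A hA
  rw [← hx, ← germ_map] at hp ⊢
  let V := EtSite.sub V₀ A
  have hV : ∀ w : V.left, V.hom w = η → w = fibPt x := fun w hw => by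
    have h1 : A.ι w = fibPt x₀ := huniq _ w.2 hw
    have h2 : A.ι (fibPt x) = fibPt x₀ := congrArg fibPt hx
    exact A.ι.isOpenEmbedding.injective (h1.trans h2.symm)
  haveI := subsingleton_bc η V (fibPt x) hV
  set s : G.obj.obj (op ((EtCoh.bc jη).obj V)) :=
    ((EtCoh.push jη).obj G).obj.map (EtSite.subHom V₀ A).op s₀
  rw [germ_pushStalk, ← map_zero (germ ζ G (liftFib jη ζ x)).hom] at hp
  have h1 := (mem_agree_iff_germ G (liftFib jη ζ x) s 0).2 hp
  have h0 : s = 0 := eq_of_agree G fun z => by rwa [Subsingleton.elim z (fibPt (liftFib jη ζ x))]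
  exact (congrArg (germ (ζ ≫ jη) ((EtCoh.push jη).obj G) x) h0).trans (map_zero _)

/-- The unit is bijective on the stalks over `η`. -/
theorem bijective_stalk_unit [QuasiSeparatedSpace X] (F : EtCoh.Ab X) {Ω : Type u} [Field Ω] [IsSepClosed Ω]
    (ξ : Spec (CommRingCat.of Ω) ⟶ X) (hξ : ξ (default : Spec (CommRingCat.of Ω)) = η) :
    Function.Bijective ((EtCoh.stalk ξ).map ((EtCoh.pullPushAdj jη).unit.app F)) := by
  obtain ⟨ζ, rfl⟩ := exists_lift_point η Ω ξ hξ
  have h2 := injective_pushStalk η ζ ((EtCoh.pull jη).obj F)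
  have h3 := ConcreteCategory.bijective_of_isIso (stalkPull jη ζ F)
  rw [← unit_pushStalk] at h3
  refine ⟨fun a b e => h3.1 (congrArg (pushStalk jη ζ _) e), fun b => ?_⟩
  obtain ⟨a, ha⟩ := h3.2 (pushStalk jη ζ _ b)
  exact ⟨a, h2 ha⟩

/-- Away from the closure of a point the stalks of a direct image from it vanish. -/
theorem subsingleton_stalk_push (G : EtCoh.Ab (Spec (X.residueField η))) {Ω : Type u} [Field Ω] [IsSepClosed Ω]
    (ξ : Spec (CommRingCat.of Ω) ⟶ X) (hξ : ¬ η ⤳ ξ (default : Spec (CommRingCat.of Ω))) :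
    Subsingleton ((EtCoh.stalk ξ).obj ((EtCoh.push jη).obj G)) := by
  refine subsingleton_of_forall_eq 0 fun p => ?_
  obtain ⟨V, x, s, rfl⟩ := germ_surjective _ _ p
  let W : V.left.Opens := V.hom ⁻¹ᵁ ⟨(closure ({η} : Set X))ᶜ, isClosed_closure.isOpen_compl⟩
  obtain ⟨y, hy⟩ := exists_fib_sub x W (show V.hom (fibPt x) ∉ closure ({η} : Set X) by
    rw [hom_fibPt]
    exact fun h => hξ (specializes_iff_mem_closure.2 h))
  rw [← hy, ← germ_map]
  have he : IsEmpty ((EtCoh.bc jη).obj (EtSite.sub V W)).left := by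
    refine ⟨fun z => ?_⟩
    have h := hom_bcFst η (EtSite.sub V W) z
    refine (bcFst jη (EtSite.sub V W) z).2 ?_
    show V.hom (W.ι _) ∈ closure ({η} : Set X)
    rw [show V.hom (W.ι (bcFst jη (EtSite.sub V W) z)) = η from (Scheme.Hom.comp_apply _ _ _).symm.trans h]
    exact subset_closure (Set.mem_singleton _)
  have := AddCommGrpCat.subsingleton_of_isZero (isZero_of_isEmpty G _ he)
  exact (congrArg _ (@Subsingleton.elim _ this _ 0)).trans (map_zero _)

end Groth.Agent.DimFn3
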