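import Groth.Agent.Lib.DimFn3.Main
import Groth.Agent.Lib.Cyc26.PullDiv
import Groth.Agent.Lib.RegLoc.Unramified

/-!
# Codimension as a dimension function
-/

set_option autoImplicit false
set_option linter.style.haveILetI false
set_option backward.isDefEq.respectTransparency false
set_option backward.isDefEq.respectTransparency.types false
set_option maxHeartbeats 1000000

universe u

open CategoryTheory CategoryTheory.Limits AlgebraicGeometry Opposite

namespace Groth.Agent.DimFn3

variable {X : Scheme.{u}} [IsNoetherian X]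

/-- The dimensions along a proper specialisation. -/
theorem exists_dims (x y : X) (hxy : x ⤳ y) (hne : x ≠ y) (R : Type u) [CommRing R] [IsLocalRing R]
    [Algebra (X.presheaf.stalk y) R] [IsLocalHom (algebraMap (X.presheaf.stalk y) R)]
    [Hensel.IsStrictHenselization (X.presheaf.stalk y) R] :
    ∃ cx cy e : ℕ, ringKrullDim (X.presheaf.stalk x) = cx ∧ ringKrullDim (X.presheaf.stalk y) = cy ∧
      ringKrullDim (R ⧸ (RingHom.ker (Cyc.specMap y x hxy)).map (algebraMap (X.presheaf.stalk y) R)) = e ∧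
      cx + e ≤ cy ∧ 1 ≤ e := by
  let A := X.presheaf.stalk y
  let p := RingHom.ker (Cyc.specMap y x hxy)
  haveI : p.IsPrime := RingHom.ker_isPrime _
  let I := p.map (algebraMap A R)
  let pt : PrimeSpectrum A := ⟨p, inferInstance⟩
  -- the dimension at `x` is the height
  have hx : ringKrullDim (X.presheaf.stalk x) = (Order.height pt : ℕ∞) := by
    letI := (X.presheaf.stalkSpecializes hxy).hom.toAlgebra
    haveI : IsLocalization.AtPrime (X.presheaf.stalk x) p := Cyc26.isLocalization_stalkSpecializes hxy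
    rw [IsLocalization.AtPrime.ringKrullDim_eq_height p]
    exact congrArg _ (PrimeSpectrum.height_eq_orderHeight pt)
  -- the prime is not the maximal one
  have hlt : pt < IsLocalRing.closedPoint A := by
    refine lt_of_le_of_ne (IsLocalRing.le_maximalIdeal (RingHom.ker_ne_top (Cyc.specMap y x hxy))) ?_
    intro h
    refine hne ?_
    let c : Spec (X.residueField x) := default
    have hs : Spec.map (CommRingCat.ofHom (Cyc.specMap y x hxy)) ≫ X.fromSpecStalk y = X.fromSpecResidueField x := by
      show Spec.map (X.presheaf.stalkSpecializes hxy ≫ X.residue x) ≫ _ = _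
      rw [Spec.map_comp, Category.assoc, Scheme.SpecMap_stalkSpecializes_fromSpecStalk]
      rfl
    have h2 : X.fromSpecStalk y (Spec.map (CommRingCat.ofHom (Cyc.specMap y x hxy)) c) = x :=
      (Scheme.Hom.comp_apply _ _ _).symm.trans
        ((congrArg (fun t : Spec (X.residueField x) ⟶ X => t c) hs).trans (Scheme.fromSpecResidueField_apply x c))
    have h3 : (Spec.map (CommRingCat.ofHom (Cyc.specMap y x hxy)) c) = IsLocalRing.closedPoint A := by
      refine Eq.trans (PrimeSpectrum.ext ?_) h
      show Ideal.comap (Cyc.specMap y x hxy) c.asIdeal = p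
      rw [show c.asIdeal = ⊥ from (Ideal.eq_bot_or_top c.asIdeal).resolve_right c.isPrime.ne_top]
      rfl
    rw [h3, Scheme.fromSpecStalk_closedPoint] at h2
    exact h2.symm
  have he : ringKrullDim (A ⧸ p) = (Order.coheight pt : ℕ∞) := by
    rw [ringKrullDim_quotient, Order.coheight_eq_krullDim_Ici]
    refine Order.krullDim_eq_of_orderIso (OrderIso.setCongr _ _ ?_)
    ext q
    exact (PrimeSpectrum.mem_zeroLocus q p).trans (PrimeSpectrum.asIdeal_le_asIdeal pt q)
  have hsum : ((Order.height pt + Order.coheight pt : ℕ∞) : WithBot ℕ∞) ≤ ringKrullDim A := by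
    haveI : Nonempty (PrimeSpectrum A) := ⟨pt⟩
    rw [ringKrullDim, Order.krullDim_eq_iSup_height_add_coheight_of_nonempty]
    exact WithBot.coe_le_coe.2 (le_iSup (fun a : PrimeSpectrum A => Order.height a + Order.coheight a) pt)
  have hpos : 1 ≤ Order.coheight pt := Order.one_le_iff_pos.2 (Order.coheight_pos.2 fun h => h.not_lt hlt)
  -- the strict henselisation does not change the dimension of the closure
  haveI : IsNoetherianRing R := Hens.strictHenselization_isNoetherianRing A R
  have hI : I ≤ IsLocalRing.maximalIdeal R := Ideal.map_le_iff_le_comap.2 fun a ha =>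
    map_nonunit (algebraMap A R) a (IsLocalRing.le_maximalIdeal (RingHom.ker_ne_top (Cyc.specMap y x hxy)) ha)
  haveI : Nontrivial (A ⧸ p) := Ideal.Quotient.nontrivial_iff.2 (RingHom.ker_ne_top (Cyc.specMap y x hxy))
  haveI : Nontrivial (R ⧸ I) := Ideal.Quotient.nontrivial_iff.2
    fun h => (IsLocalRing.maximalIdeal.isMaximal R).ne_top (top_le_iff.1 (h ▸ hI))
  haveI : IsLocalRing (A ⧸ p) := IsLocalRing.of_surjective' (Ideal.Quotient.mk p) Ideal.Quotient.mk_surjective
  haveI : IsLocalRing (R ⧸ I) := IsLocalRing.of_surjective' (Ideal.Quotient.mk I) Ideal.Quotient.mk_surjective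
  haveI : Module.Flat A R := Hens.strictHenselization_flat (R := A) (S := R)
  haveI : Module.Flat (A ⧸ p) (R ⧸ I) :=
    Module.Flat.of_linearEquiv (Algebra.TensorProduct.quotIdealMapEquivQuotTensor R p).toLinearEquiv
  have hmA : (IsLocalRing.maximalIdeal A).map (Ideal.Quotient.mk p) = IsLocalRing.maximalIdeal (A ⧸ p) :=
    IsLocalRing.map_maximalIdeal_of_surjective _ Ideal.Quotient.mk_surjective
  have hmR : (IsLocalRing.maximalIdeal R).map (Ideal.Quotient.mk I) = IsLocalRing.maximalIdeal (R ⧸ I) :=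
    IsLocalRing.map_maximalIdeal_of_surjective _ Ideal.Quotient.mk_surjective
  have hm : (IsLocalRing.maximalIdeal (A ⧸ p)).map (algebraMap (A ⧸ p) (R ⧸ I)) =
      IsLocalRing.maximalIdeal (R ⧸ I) := by
    rw [← hmA, ← hmR, Ideal.map_map, ← Hens.strictHenselization_map_maximalIdeal (R := A) (S := R), Ideal.map_map]
    rfl
  haveI : IsLocalHom (algebraMap (A ⧸ p) (R ⧸ I)) :=
    ((IsLocalRing.local_hom_TFAE _).out 2 0 rfl rfl).mp hm.le
  have hdim : ringKrullDim (R ⧸ I) = (Order.coheight pt : ℕ∞) :=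
    (RegLoc.ringKrullDim_eq_of_map_maximalIdeal hm).trans he
  obtain ⟨cy, hcy⟩ : ∃ cy : ℕ, ringKrullDim A = cy := by
    have h1 : ringKrullDim A ≠ ⊤ := ringKrullDim_ne_top
    have h0 : 0 ≤ ringKrullDim A := ringKrullDim_nonneg_of_nontrivial
    revert h1 h0
    generalize ringKrullDim A = d
    intro h1 h0
    cases d with
    | bot => exact absurd h0 (by simp)
    | coe n =>
      cases n with
      | top => exact absurd rfl h1
      | coe m => exact ⟨m, rfl⟩
  rw [hcy] at hsum
  have hs : Order.height pt + Order.coheight pt ≤ (cy : ℕ∞) := by exact_mod_cast hsum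
  obtain ⟨a, ha⟩ := ENat.ne_top_iff_exists.1 (ne_top_of_le_ne_top (ENat.natCast_ne_top cy) (le_self_add.trans hs))
  obtain ⟨b, hb⟩ := ENat.ne_top_iff_exists.1 (ne_top_of_le_ne_top (ENat.natCast_ne_top cy) (le_add_self.trans hs))
  refine ⟨a, cy, b, by rw [hx, ← ha]; rfl, hcy, by rw [hdim, ← hb]; rfl, ?_, ?_⟩
  · rw [← ha, ← hb] at hs; exact_mod_cast hs
  · rw [← hb] at hpos; exact_mod_cast hpos

theorem subsingleton_H_codim (ℓ n : ℕ)
    (h1 : ∀ (y : X) (c : ℕ), ringKrullDim (X.presheaf.stalk y) = c →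
      2 * c ≤ n ∧ Dix.CohDimLEAt (Spec (X.residueField y)) ℓ (n - 2 * c))
    (h2 : ∀ (x y : X) (hxy : x ⤳ y), ∀ (R : Type u) [CommRing R] [IsLocalRing R] [Algebra (X.presheaf.stalk y) R]
      [IsLocalHom (algebraMap (X.presheaf.stalk y) R)] [Hensel.IsStrictHenselization (X.presheaf.stalk y) R],
      ∀ P ∈ ((RingHom.ker (Cyc.specMap y x hxy)).map (algebraMap (X.presheaf.stalk y) R)).minimalPrimes,
        ∀ e : ℕ, ringKrullDim (R ⧸ (RingHom.ker (Cyc.specMap y x hxy)).map (algebraMap (X.presheaf.stalk y) R)) = e →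
          Dix.CohDimLEAt (Spec (CommRingCat.of (FractionRing (R ⧸ P)))) ℓ e)
    (hst : ∀ (η : X) (G : EtCoh.Ab (Spec (X.residueField η))) (i : ℕ),
      FibVan3.StalkFormula (X.fromSpecResidueField η) G i)
    (s : ℕ) (F : EtCoh.Ab X) (hF : Dix.IsPrimaryTorsion ℓ F)
    (hs : ∀ y ∈ EtPBC.supp F, (s : WithBot ℕ∞) ≤ ringKrullDim (X.presheaf.stalk y))
    (q : ℕ) (hq : n < q + 2 * s) :
    Subsingleton (EtCoh.H X F q) := by
  have hfin : ∀ y : X, ∃ c : ℕ, ringKrullDim (X.presheaf.stalk y) = c := fun y => by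
    have h1' : ringKrullDim (X.presheaf.stalk y) ≠ ⊤ := ringKrullDim_ne_top
    have h0 : 0 ≤ ringKrullDim (X.presheaf.stalk y) := ringKrullDim_nonneg_of_nontrivial
    revert h1' h0
    generalize ringKrullDim (X.presheaf.stalk y) = d
    intro h1' h0
    cases d with
    | bot => exact absurd h0 (by simp)
    | coe m =>
      cases m with
      | top => exact absurd rfl h1'
      | coe m => exact ⟨m, rfl⟩
  choose c hc using hfin
  refine subsingleton_H_dimFn ℓ (fun y => n - 2 * c y) (fun y => (h1 y (c y) (hc y)).2) ?_ hst F hF q fun y hy => ?_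
  · intro x y hxy hne R _ _ _ _ _ P hP
    obtain ⟨cx, cy, e, hx, hy, he, hle, he1⟩ := exists_dims x y hxy hne R
    have ex : cx = c x := by exact_mod_cast hx.symm.trans (hc x)
    have ey : cy = c y := by exact_mod_cast hy.symm.trans (hc y)
    have := (h1 y (c y) (hc y)).1
    exact ⟨e, by omega, h2 x y hxy R P hP e he⟩
  · have h := hs y hy
    rw [hc y] at h
    have h' : s ≤ c y := by exact_mod_cast h
    have := (h1 y (c y) (hc y)).1
    show n - 2 * c y < q
    omega

end Groth.Agent.DimFn3
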