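import Groth.Agent.Lib.EtPic3.ClosedSupp
import Groth.Agent.Lib.Constr24.Descent

/-!
# Sheaves supported in a set stable under specialization
-/

set_option autoImplicit false
set_option linter.style.haveILetI false
set_option backward.isDefEq.respectTransparency false
set_option backward.isDefEq.respectTransparency.types false
set_option maxHeartbeats 1000000

universe u

open CategoryTheory CategoryTheory.Limits AlgebraicGeometry Opposite CategoryTheory.Abelian
open Groth.Agent.EtStalk

namespace Groth.Agent.DimFn3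

variable {X : Scheme.{u}}

/-- The stalks outside `E` vanish. -/
def SuppIn (F : EtCoh.Ab X) (E : Set X) : Prop :=
  ∀ (Ω : Type u) [Field Ω] [IsSepClosed Ω] (ξ : Spec (CommRingCat.of Ω) ⟶ X),
    ξ (default : Spec (CommRingCat.of Ω)) ∉ E → Subsingleton ((EtCoh.stalk ξ).obj F)

theorem SuppIn.mono {F : EtCoh.Ab X} {E E' : Set X} (h : SuppIn F E) (hE : E ⊆ E') : SuppIn F E' :=
  fun Ω _ _ ξ hξ => h Ω ξ fun hx => hξ (hE hx)

theorem SuppIn.of_mono {F G : EtCoh.Ab X} {E : Set X} (a : G ⟶ F) [Mono a] (h : SuppIn F E) : SuppIn G E :=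
  fun Ω _ _ ξ hξ => haveI := h Ω ξ hξ; ((mono_iff_stalk a).1 ‹_› Ω ξ).subsingleton

theorem SuppIn.of_epi {F G : EtCoh.Ab X} {E : Set X} (a : F ⟶ G) [Epi a] (h : SuppIn F E) : SuppIn G E :=
  fun Ω _ _ ξ hξ => haveI := h Ω ξ hξ; ((epi_iff_stalk a).1 ‹_› Ω ξ).subsingleton

theorem isZero_of_suppIn_empty {F : EtCoh.Ab X} (h : SuppIn F ∅) : IsZero F :=
  (isZero_iff_stalk F).2 fun Ω _ _ ξ =>
    haveI := h Ω ξ (Set.notMem_empty _)
    AddCommGrpCat.isZero_of_subsingleton _

theorem subsingleton_stalk_congr {F : EtCoh.Ab X} {Ω Ω' : Type u} [Field Ω] [IsSepClosed Ω] [Field Ω']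
    [IsSepClosed Ω'] (ξ : Spec (CommRingCat.of Ω) ⟶ X) (η : Spec (CommRingCat.of Ω') ⟶ X)
    (h : ξ default = η default) (hs : Subsingleton ((EtCoh.stalk η).obj F)) :
    Subsingleton ((EtCoh.stalk ξ).obj F) := subsingleton_of_forall_eq 0 fun q => by
  obtain ⟨r, rfl⟩ := Constr24.surjective_stalk_congr (0 : F ⟶ F) ξ η h
    (fun q' => ⟨q', @Subsingleton.elim _ hs _ _⟩) q
  rw [Functor.map_zero]
  rfl

/-- The support of a sheaf contains every point with a nonzero stalk. -/
theorem suppIn_supp (F : EtCoh.Ab X) : SuppIn F (EtPBC.supp F) := fun Ω _ _ ξ hξ => by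
  by_contra h
  have hr : Set.range ξ = {ξ (default : Spec (CommRingCat.of Ω))} := Set.range_unique
  have hz : ¬ IsZero ((EtCoh.stalk ξ).obj F) := fun hz => h (AddCommGrpCat.subsingleton_of_isZero hz)
  unfold EtPBC.supp at hξ
  rw [Set.mem_setOf_eq] at hξ
  exact hξ ⟨Ω, _, _, ξ, hr, hz⟩

section Colimit

variable (F : EtCoh.Ab X) (E : Set X)

/-- Closed subsets of `E`. -/
structure CIdx : Type (u + 1) where
  val : ULift.{u + 1} (TopologicalSpace.Closeds X)
  le : (val.down : Set X) ⊆ E

instance : Preorder (CIdx E) where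
  le a b := a.val.down ≤ b.val.down
  le_refl _ := le_refl _
  le_trans _ _ _ := le_trans

instance : Nonempty (CIdx E) := ⟨⟨⟨⊥⟩, fun _ hx => absurd hx (Set.notMem_empty _)⟩⟩

instance : IsDirectedOrder (CIdx E) :=
  ⟨fun a b => ⟨⟨⟨a.val.down ⊔ b.val.down⟩, Set.union_subset a.le b.le⟩,
    (le_sup_left : a.val.down ≤ a.val.down ⊔ b.val.down),
    (le_sup_right : b.val.down ≤ a.val.down ⊔ b.val.down)⟩⟩

variable {E}

/-- The complement of a closed set. -/
def cpl (m : CIdx E) : X.Opens := m.val.down.compl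

/-- Restriction to the complement. -/
noncomputable def cplMap (m : CIdx E) :
    F ⟶ (EtCoh.push (cpl m).ι).obj ((EtCoh.pull (cpl m).ι).obj F) :=
  (EtCoh.pullPushAdj (cpl m).ι).unit.app F

variable {F}

/-- The sections killed by restriction to the complement. -/
theorem cplMap_eq_zero_iff (m : CIdx E) {U : X.Etale} (s : F.obj.obj (op U)) :
    (cplMap F m).hom.app (op U) s = 0 ↔ ∀ u : U.left, U.hom u ∉ m.val.down → u ∈ agree F s 0 := by
  constructor
  · intro h u hu
    obtain ⟨z, hz, -⟩ := Scheme.Pullback.exists_preimage_pullback (f := U.hom) (g := (cpl m).ι) u ⟨U.hom u, hu⟩ rfl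
    rw [← hz]
    refine (mem_agree_unit (cpl m).ι F s 0 z).1 ?_
    rw [map_zero]
    exact ⟨_, 𝟙 _, ⟨z, rfl⟩, congrArg _ h⟩
  · intro h
    refine eq_of_agree ((EtCoh.pull (cpl m).ι).obj F) (U := (EtCoh.bc (cpl m).ι).obj U) fun z => ?_
    have hz : U.hom (bcFst (cpl m).ι U z) ∉ m.val.down := by
      show U.hom (pullback.fst U.hom (cpl m).ι z) ∉ _
      rw [show U.hom (pullback.fst U.hom (cpl m).ι z) = (cpl m).ι (pullback.snd U.hom (cpl m).ι z) from
        (Scheme.Hom.comp_apply _ _ _).symm.trans ((congrArg (fun a : pullback U.hom (cpl m).ι ⟶ X => a z)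
          pullback.condition).trans (Scheme.Hom.comp_apply _ _ _))]
      exact (pullback.snd U.hom (cpl m).ι z).2
    have := (mem_agree_unit (cpl m).ι F s 0 z).2 (h _ hz)
    rwa [map_zero] at this

variable (F)

theorem suppIn_kernel (m : CIdx E) : SuppIn (kernel (cplMap F m)) (m.val.down : Set X) := by
  intro Ω _ _ ξ hξ
  refine subsingleton_of_forall_eq 0 fun p =>
    ((mono_iff_stalk (kernel.ι (cplMap F m))).1 inferInstance Ω ξ) ?_
  rw [map_zero]
  obtain ⟨U, x, s, rfl⟩ := germ_surjective _ _ p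
  change (EtCoh.stalk ξ).map (kernel.ι (cplMap F m)) (germ ξ (kernel (cplMap F m)) x s) = 0
  rw [germ_nat, ← map_zero (germ ξ F x).hom]
  refine (mem_agree_iff_germ F x _ 0).1 ?_
  refine (cplMap_eq_zero_iff m _).1
    (congrArg (fun φ : kernel (cplMap F m) ⟶ _ => φ.hom.app (op U) s) (kernel.condition (cplMap F m))) _ ?_
  have hw : U.hom (fibPt x) = ξ default :=
    (Scheme.Hom.comp_apply x.left U.hom _).symm.trans
      (congrArg (fun a : Spec (CommRingCat.of Ω) ⟶ X => a (default : Spec (CommRingCat.of Ω))) (Over.w x))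
  rwa [hw]

theorem ker_le {m k : CIdx E} (h : m ≤ k) : kernel.ι (cplMap F m) ≫ cplMap F k = 0 := by
  apply (sheafToPresheaf _ _).map_injective
  ext U s
  obtain ⟨U⟩ := U
  show (cplMap F k).hom.app (op U) ((kernel.ι (cplMap F m)).hom.app (op U) s) = 0
  rw [cplMap_eq_zero_iff]
  intro u hu
  refine (cplMap_eq_zero_iff m _).1 ?_ u fun hm => hu (h hm)
  exact congrArg (fun φ : kernel (cplMap F m) ⟶ _ => φ.hom.app (op U) s) (kernel.condition (cplMap F m))

/-- The filtration by supports. -/
noncomputable def sDiag : CIdx E ⥤ EtCoh.Ab X where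
  obj m := kernel (cplMap F m)
  map {m k} h := kernel.lift _ (kernel.ι _) (ker_le F (leOfHom h))
  map_id m := equalizer.hom_ext (by simp)
  map_comp f g := equalizer.hom_ext (by simp)

/-- The cocone of the filtration. -/
noncomputable def sCocone : Cocone (sDiag (E := E) F) where
  pt := F
  ι := { app := fun m => kernel.ι _
         naturality := fun m k h => by simp [sDiag] }

variable [IsNoetherian X]

theorem isIso_sDesc (hE : StableUnderSpecialization E) (hF : SuppIn F E) :
    IsIso (colimit.desc (sDiag (E := E) F) (sCocone F)) := by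
  haveI : IsFiltered (CIdx E) := isFiltered_of_directed_le_nonempty _
  haveI : CategoryTheory.IsConnected (CIdx E) := IsFiltered.isConnected _
  let α : sDiag (E := E) F ⟶ (Functor.const _).obj F := (sCocone F).ι
  haveI : ∀ m, Mono (α.app m) := fun m => inferInstanceAs (Mono (kernel.ι _))
  haveI : Mono α := NatTrans.mono_of_mono_app α
  haveI : Mono (colimit.desc (sDiag (E := E) F) (sCocone F)) :=
    colim.map_mono' α (colimit.isColimit _) (isColimitConstCocone _ _) _ (fun m => by simp [α])
  haveI : Sheaf.IsLocallySurjective (colimit.desc (sDiag (E := E) F) (sCocone F)) := by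
    constructor
    intro U s
    rw [EtSite.mem_et_iff]
    intro x
    obtain ⟨A, hA, hxA, -⟩ := exists_isAffineOpen_mem_and_subset (X := U.left) (x := x) (U := ⊤) trivial
    let V := EtSite.sub U A
    let g : V ⟶ U := EtSite.subHom U A
    refine ⟨V, g, ⟨x, hxA⟩, ?_, rfl⟩
    haveI : IsAffine V.left := hA
    haveI : CompactSpace ((𝟭 Scheme).obj V.left) := inferInstanceAs (CompactSpace V.left)
    haveI : Etale V.hom := V.prop
    haveI : IsLocallyNoetherian ((Functor.fromPUnit X).obj V.right) := inferInstanceAs (IsLocallyNoetherian X)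
    haveI : IsLocallyNoetherian V.left := LocallyOfFiniteType.isLocallyNoetherian V.hom
    haveI : IsNoetherian V.left := { }
    show ∃ t, (colimit.desc (sDiag (E := E) F) (sCocone F)).hom.app (op V) t = F.obj.map g.op s
    let t₀ := F.obj.map g.op s
    let Z : TopologicalSpace.Closeds V.left := ⟨(agree F t₀ 0)ᶜ, (isOpen_agree F t₀ 0).isClosed_compl⟩
    haveI : TopologicalSpace.NoetherianSpace V.left := inferInstance
    obtain ⟨S, hS, hSf, hirr, hZ⟩ := TopologicalSpace.NoetherianSpace.exists_finite_set_isClosed_irreducible Z.2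
    have hmem : ∀ z ∈ (Z : Set V.left), V.hom z ∈ E := fun z hz => by
      by_contra h
      obtain ⟨φ, hφ⟩ := exists_fib V z
      haveI := hF _ (geomPt X (V.hom z)) (by rwa [geomPt_default])
      exact hz (hφ ▸ (mem_agree_iff_germ F φ t₀ 0).2 (Subsingleton.elim _ _))
    haveI := hS.to_subtype
    have hgen : ∀ C : S, ∃ η ∈ (C : Set V.left), ∀ c ∈ (C : Set V.left), η ⤳ c := fun C => by
      have hirrC := hirr C C.2
      refine ⟨hirrC.genericPoint, ?_, fun c hc => ?_⟩
      · have := hirrC.isGenericPoint_genericPoint_closure.mem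
        rwa [(hSf C C.2).closure_eq] at this
      · exact hirrC.isGenericPoint_genericPoint_closure.specializes (subset_closure hc)
    choose η hη hηsp using hgen
    have hCZ : ∀ C : S, (C : Set V.left) ⊆ (Z : Set V.left) := fun C => by
      rw [show (Z : Set V.left) = ⋃₀ S from hZ]; exact Set.subset_sUnion_of_mem C.2
    let m : CIdx E := ⟨⟨⟨⋃ C : S, closure {V.hom (η C)}, isClosed_iUnion_of_finite fun _ => isClosed_closure⟩⟩,
      fun y hy => by
        obtain ⟨C, hC⟩ := Set.mem_iUnion.1 hy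
        exact hE (specializes_iff_mem_closure.2 hC) (hmem _ (hCZ C (hη C)))⟩
    have hm : (cplMap F m).hom.app (op V) t₀ = 0 := by
      rw [cplMap_eq_zero_iff]
      intro u hu
      by_contra h
      have hu' : u ∈ ⋃₀ S := (show (Z : Set V.left) = ⋃₀ S from hZ) ▸ h
      obtain ⟨C, hC, huC⟩ := hu'
      exact hu (Set.mem_iUnion.2 ⟨⟨C, hC⟩,
        specializes_iff_mem_closure.1 ((hηsp ⟨C, hC⟩ u huC).map V.hom.continuous)⟩)
    let ev := sheafToPresheaf X.smallEtaleTopology AddCommGrpCat.{u + 1} ⋙ (evaluation _ _).obj (op V)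
    haveI : ev.Additive := { }
    have hex : (ShortComplex.mk _ _ (kernel.condition (cplMap F m))).Exact :=
      ShortComplex.exact_of_f_is_kernel _ (kernelIsKernel _)
    have hex' := (hex.map_of_mono_of_preservesKernel ev inferInstance inferInstance)
    rw [ShortComplex.ab_exact_iff] at hex'
    obtain ⟨r, hr⟩ := hex' t₀ hm
    refine ⟨(colimit.ι (sDiag (E := E) F) m).hom.app (op V) r, ?_⟩
    have := ConcreteCategory.congr_hom (congrArg (fun φ => φ.hom.app (op V))
      (colimit.ι_desc (sCocone (E := E) F) m)) r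
    exact this.trans hr
  haveI : Epi (colimit.desc (sDiag (E := E) F) (sCocone F)) :=
    (Sheaf.isLocallySurjective_iff_epi' _ _).1 inferInstance
  exact isIso_of_mono_of_epi _

/-- Classes come from the subsheaves supported on closed subsets. -/
theorem exists_closed_supp (hE : StableUnderSpecialization E) (hF : SuppIn F E) {n : ℕ} (z : EtCoh.H X F n) :
    ∃ (m : CIdx E) (y : EtCoh.H X (kernel (cplMap F m)) n),
      z = y.comp (Ext.mk₀ (kernel.ι (cplMap F m))) (add_zero n) := by
  haveI : IsFiltered (CIdx E) := isFiltered_of_directed_le_nonempty _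
  haveI := isIso_sDesc F hE hF
  let d := colimit.desc (sDiag (E := E) F) (sCocone F)
  obtain ⟨m, y, hy⟩ := (EtColim.surj_inj X n (sDiag F)).1 (z.comp (Ext.mk₀ (inv d)) (add_zero n))
  refine ⟨m, y, ?_⟩
  have := congrArg (fun w => Ext.comp w (Ext.mk₀ d) (add_zero n)) hy
  simp only [ExtColim.comp_mk₀, d, colimit.ι_desc, IsIso.inv_hom_id] at this
  exact (this.trans (Ext.comp_mk₀_id _)).symm

end Colimit

end Groth.Agent.DimFn3
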