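import Groth.Agent.Lib.DimFn3.Primary
import Groth.Agent.Lib.DimFn3.Supp
import Groth.Agent.Lib.FibreTop.Strata
import Groth.Agent.Lib.Hens.Noetherian
import Groth.Agent.Lib.Hens.Fibre
import Groth.Agent.Lib.EtStalk.IntegralUniv
import Groth.Prelude.Def_Cyc

/-!
# Fibres of strict henselisations over a point
-/

set_option autoImplicit false
set_option linter.style.haveILetI false
set_option backward.isDefEq.respectTransparency false
set_option backward.isDefEq.respectTransparency.types false
set_option maxHeartbeats 1000000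

universe u

open CategoryTheory CategoryTheory.Limits AlgebraicGeometry Opposite CategoryTheory.Abelian
open Groth.Agent.EtStalk

namespace Groth.Agent.DimFn3

/-- Cohomological dimension passes along isomorphisms. -/
theorem cohDimLEAt_of_iso {Y Z : Scheme.{u}} (i : Z ⟶ Y) [IsIso i] {ℓ d : ℕ} (h : Dix.CohDimLEAt Y ℓ d) :
    Dix.CohDimLEAt Z ℓ d := fun G hG q hq => by
  haveI := h _ (isPrimaryTorsion_push i hG) q hq
  exact (FieldH25.bijective_HofPush_integral i G q).2.subsingleton

/-- Cohomology of a scheme with finitely many closed points vanishes where that of the points does. -/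
theorem subsingleton_H_finset {Y : Scheme.{u}} {ℓ d : ℕ} : ∀ (T : Finset Y), (∀ x ∈ T, IsClosed ({x} : Set Y)) →
    (∀ x ∈ T, Dix.CohDimLEAt (Spec (Y.residueField x)) ℓ d) → ∀ F : EtCoh.Ab Y, CdP3.PTors ℓ F → SuppIn F T →
    ∀ q : ℕ, d < q → Subsingleton (EtCoh.H Y F q) := by
  classical
  intro T
  induction T using Finset.induction_on with
  | empty =>
    intro _ _ F _ hs q _
    have hz : IsZero F := isZero_of_suppIn_empty (hs.mono (by simp))
    exact subsingleton_of_forall_eq 0 fun c => by
      rw [← Ext.comp_mk₀_id c, hz.eq_of_src (𝟙 F) 0, Ext.mk₀_zero, Ext.comp_zero]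
  | insert x T hxT ih =>
    intro hT hcd F hp hF q hq
    have hx : IsClosed ({x} : Set Y) := hT x (Finset.mem_insert_self _ _)
    haveI : IsClosedImmersion (Y.fromSpecResidueField x) := isClosed_singleton_iff_isClosedImmersion.1 hx
    let i := Y.fromSpecResidueField x
    let a := (EtCoh.pullPushAdj i).unit.app F
    have hr : Set.range i = {x} := Scheme.range_fromSpecResidueField x
    have hbij : ∀ (Ω : Type u) [Field Ω] [IsSepClosed Ω] (ξ : Spec (CommRingCat.of Ω) ⟶ Y),
        ξ (default : Spec (CommRingCat.of Ω)) = x → Function.Bijective ((EtCoh.stalk ξ).map a) := by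
      intro Ω _ _ ξ hξ
      obtain ⟨ζ, rfl⟩ := exists_lift_point i ξ (hr ▸ hξ)
      rw [← ConcreteCategory.isIso_iff_bijective,
        show (EtCoh.stalk (ζ ≫ i)).map a = stalkPull i ζ F ≫ inv (pushStalk i ζ ((EtCoh.pull i).obj F)) by
          rw [IsIso.eq_comp_inv, unit_pushStalk]]
      infer_instance
    haveI : Epi a := (epi_iff_stalk a).2 fun Ω _ _ ξ => by
      by_cases h : ξ (default : Spec (CommRingCat.of Ω)) = x
      · exact (hbij Ω ξ h).2
      · have := AddCommGrpCat.subsingleton_of_isZero (stalk_push_isZero i ((EtCoh.pull i).obj F) ξ (hr ▸ h))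
        exact fun b => ⟨0, @Subsingleton.elim _ this _ _⟩
    let S := ShortComplex.mk (kernel.ι a) a (kernel.condition a)
    have hS : S.ShortExact := { exact := ShortComplex.exact_of_f_is_kernel _ (kernelIsKernel a) }
    have hK : SuppIn S.X₁ T := fun Ω _ _ ξ hξ => by
      have hinj := (mono_iff_stalk S.f).1 inferInstance Ω ξ
      refine subsingleton_of_forall_eq 0 fun p => hinj ?_
      rw [map_zero]
      by_cases h : ξ (default : Spec (CommRingCat.of Ω)) = x
      · refine (hbij Ω ξ h).1 ?_
        show (EtCoh.stalk ξ).map a ((EtCoh.stalk ξ).map (kernel.ι a) p) = _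
        rw [map_zero, ← ConcreteCategory.comp_apply, ← Functor.map_comp, kernel.condition, Functor.map_zero]
        rfl
      · haveI := hF Ω ξ (by simp [h, show ξ (default : Spec (CommRingCat.of Ω)) ∉ T from hξ])
        exact Subsingleton.elim (α := ((EtCoh.stalk ξ).obj F : Type (u + 1))) _ _
    haveI := hcd x (Finset.mem_insert_self _ _) _ (FibVan3.isPrimaryTorsion_of_pTors (hp.pull i)) q hq
    haveI : Subsingleton (EtCoh.H Y S.X₃ q) :=
      (FieldH25.bijective_HofPush_integral i ((EtCoh.pull i).obj F) q).1.subsingleton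
    refine subsingleton_of_forall_eq 0 fun z => ?_
    obtain ⟨y, rfl⟩ := Ext.covariant_sequence_exact₂ _ hS z (Subsingleton.elim (α := EtCoh.H Y S.X₃ q) _ 0)
    haveI := ih (fun y hy => hT y (Finset.mem_insert_of_mem hy)) (fun y hy => hcd y (Finset.mem_insert_of_mem hy))
      S.X₁ (hp.of_mono (kernel.ι a)) hK q hq
    rw [show y = 0 from Subsingleton.elim (α := EtCoh.H Y S.X₁ q) y 0, Ext.zero_comp]

/-- Primes over a given prime are minimal over its extension when the stalks are unramified. -/
theorem mem_minimalPrimes_of_unrStalks {A R : Type u} [CommRing A] [CommRing R] [Algebra A R]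
    (hu : Hens.UnrStalks A R) (Q : Ideal R) [Q.IsPrime] :
    Q ∈ ((Q.comap (algebraMap A R)).map (algebraMap A R)).minimalPrimes := by
  refine ⟨⟨inferInstance, Ideal.map_comap_le⟩, fun P hP hle x hx => ?_⟩
  obtain ⟨s, hs, h⟩ := hu Q inferInstance x hx
  haveI := hP.1
  exact (hP.1.mem_or_mem (hP.2 h)).resolve_left fun hsP => hs (hle hsP)

variable {X : Scheme.{u}} [IsLocallyNoetherian X]

theorem subsingleton_H_fibre (η s : X) (R : Type u) [CommRing R] [IsLocalRing R] [Algebra (X.presheaf.stalk s) R]
    [IsLocalHom (algebraMap (X.presheaf.stalk s) R)] [Hensel.IsStrictHenselization (X.presheaf.stalk s) R]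
    (ℓ d : ℕ)
    (hcd : ∀ (hsp : η ⤳ s), ∀ Q ∈ ((RingHom.ker (Cyc.specMap s η hsp)).map
      (algebraMap (X.presheaf.stalk s) R)).minimalPrimes,
      Dix.CohDimLEAt (Spec (CommRingCat.of (FractionRing (R ⧸ Q)))) ℓ d)
    (G : EtCoh.Ab (Spec (X.residueField η))) (hG : Dix.IsPrimaryTorsion ℓ G) (i : ℕ) (hi : d < i) :
    Subsingleton (EtCoh.H (pullback (X.fromSpecResidueField η) (Hens2.specOf X s R))
      ((EtCoh.pull (pullback.fst (X.fromSpecResidueField η) (Hens2.specOf X s R))).obj G) i) := by
  let j := X.fromSpecResidueField η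
  let g := Hens2.specOf X s R
  let A := X.presheaf.stalk s
  let Y := pullback j g
  let b : Y ⟶ Spec (CommRingCat.of R) := pullback.snd j g
  have hj : IsPreimmersion j := inferInstance
  haveI : IsPreimmersion b := MorphismProperty.pullback_snd (P := @IsPreimmersion) j g hj
  obtain ⟨e⟩ := Hens.exists_strictHenselization_equiv (R := A) (S := R)
  have hu : Hens.UnrStalks A R := (Hens.UnrStalks.hs A _).of_algEquiv e
  haveI : IsNoetherianRing R := Hens.strictHenselization_isNoetherianRing A R
  -- points of the fibre are primes over the prime of `η`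
  have hg : ∀ z : Y, g (b z) = η := fun z =>
    (Scheme.Hom.comp_apply _ _ _).symm.trans ((congrArg (fun t : Y ⟶ X => t z) pullback.condition.symm).trans
      ((Scheme.Hom.comp_apply _ _ _).trans (Scheme.fromSpecResidueField_apply η _)))
  have hmin : ∀ z : Y, ∃ hsp : η ⤳ s, (b z).asIdeal ∈
      ((RingHom.ker (Cyc.specMap s η hsp)).map (algebraMap A R)).minimalPrimes := fun z => by
    have h1 : X.fromSpecStalk s (Spec.map (CommRingCat.ofHom (algebraMap A R)) (b z)) = η :=
      (Scheme.Hom.comp_apply _ _ _).symm.trans (hg z)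
    have hsp : η ⤳ s := by
      rw [← h1]
      exact (Scheme.range_fromSpecStalk (X := X) (x := s)).subset ⟨_, rfl⟩
    refine ⟨hsp, ?_⟩
    let c : Spec (X.residueField η) := default
    have h2 : X.fromSpecStalk s (Spec.map (CommRingCat.ofHom (Cyc.specMap s η hsp)) c) = η := by
      have h : Spec.map (CommRingCat.ofHom (Cyc.specMap s η hsp)) ≫ X.fromSpecStalk s = X.fromSpecResidueField η := by
        show Spec.map (X.presheaf.stalkSpecializes hsp ≫ X.residue η) ≫ _ = _
        rw [Spec.map_comp, Category.assoc, Scheme.SpecMap_stalkSpecializes_fromSpecStalk]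
        rfl
      exact (Scheme.Hom.comp_apply _ _ _).symm.trans
        ((congrArg (fun t : Spec (X.residueField η) ⟶ X => t c) h).trans (Scheme.fromSpecResidueField_apply η c))
    have hinj : Function.Injective (X.fromSpecStalk s) := (X.fromSpecStalk s).isEmbedding.injective
    have h3 := congrArg PrimeSpectrum.asIdeal (hinj (h1.trans h2.symm))
    have h4 : RingHom.ker (Cyc.specMap s η hsp) = (b z).asIdeal.comap (algebraMap A R) := by
      refine Eq.trans ?_ h3.symm
      show _ = Ideal.comap (Cyc.specMap s η hsp) c.asIdeal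
      have hc : c.asIdeal = ⊥ := (Ideal.eq_bot_or_top c.asIdeal).resolve_right c.isPrime.ne_top
      rw [hc]
      rfl
    rw [h4]
    exact mem_minimalPrimes_of_unrStalks hu _
  -- the fibre is finite and discrete
  have hfin : ∀ hsp : η ⤳ s,
      ((RingHom.ker (Cyc.specMap s η hsp)).map (algebraMap A R)).minimalPrimes.Finite :=
    fun _ => Ideal.finite_minimalPrimes_of_isNoetherianRing R _
  haveI : Finite Y := by
    by_cases hne : Nonempty Y
    · obtain ⟨z₀⟩ := hne
      obtain ⟨hsp, -⟩ := hmin z₀
      haveI := (hfin hsp).to_subtype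
      exact Finite.of_injective (fun z : Y => (⟨(b z).asIdeal, (hmin z).2⟩ :
        ((RingHom.ker (Cyc.specMap s η hsp)).map (algebraMap A R)).minimalPrimes)) fun z w h =>
          b.isEmbedding.injective (PrimeSpectrum.ext (congrArg Subtype.val h))
    · haveI := not_nonempty_iff.1 hne
      infer_instance
  have hclosed : ∀ z : Y, IsClosed ({z} : Set Y) := fun z => by
    rw [← closure_subset_iff_isClosed]
    intro w hw
    refine b.isEmbedding.injective (PrimeSpectrum.ext ?_)
    have hle : (b z).asIdeal ≤ (b w).asIdeal :=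
      (PrimeSpectrum.le_iff_specializes _ _).2 ((specializes_iff_mem_closure.2 hw).map b.continuous)
    obtain ⟨hsp, hz⟩ := hmin z
    exact le_antisymm ((hmin w).2.2 hz.1 hle) hle
  haveI : Fintype Y := Fintype.ofFinite Y
  refine subsingleton_H_finset (ℓ := ℓ) (d := d) Finset.univ (fun z _ => hclosed z) (fun z _ => ?_) _
    ((CdP3.PTors.of_primary hG).pull _) (fun Ω _ _ ξ h => absurd (Finset.mem_coe.2 (Finset.mem_univ _)) h) i hi
  obtain ⟨hsp, hz⟩ := hmin z
  haveI := FibreTop.isIso_residueFieldMap_of_isPreimmersion b z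
  have h1 := hcd hsp _ hz
  let eQ : FractionRing (R ⧸ (b z).asIdeal) ≃+* (b z).asIdeal.ResidueField :=
    (FractionRing.algEquiv (R ⧸ (b z).asIdeal) (b z).asIdeal.ResidueField).toRingEquiv
  let φ : CommRingCat.of (FractionRing (R ⧸ (b z).asIdeal)) ⟶ Y.residueField z :=
    eQ.toCommRingCatIso.hom ≫ (Scheme.Spec.residueFieldIso (CommRingCat.of R) (b z)).inv ≫ b.residueFieldMap z
  haveI : IsIso φ := inferInstance
  haveI : IsIso (Spec.map φ) := inferInstance
  exact cohDimLEAt_of_iso (Spec.map φ) h1

end Groth.Agent.DimFn3
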