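import Groth.Agent.Lib.DimFn3.Engine
import Groth.Agent.Lib.DimFn3.Fibre
import Groth.Agent.Lib.EtPic3.Artinian

/-!
# Cohomological dimension from a dimension function
-/

set_option autoImplicit false
set_option linter.style.haveILetI false
set_option backward.isDefEq.respectTransparency false
set_option backward.isDefEq.respectTransparency.types false
set_option maxHeartbeats 1000000

universe u

open CategoryTheory CategoryTheory.Limits AlgebraicGeometry Opposite CategoryTheory.Abelian
open Groth.Agent.EtStalk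

namespace Groth.Agent.DimFn3

variable {X : Scheme.{u}} [IsNoetherian X]

theorem exists_minimalPrime (x y : X) (hxy : x ⤳ y) (R : Type u) [CommRing R] [IsLocalRing R]
    [Algebra (X.presheaf.stalk y) R] [IsLocalHom (algebraMap (X.presheaf.stalk y) R)] :
    ∃ P : Ideal R, P ∈ ((RingHom.ker (Cyc.specMap y x hxy)).map (algebraMap (X.presheaf.stalk y) R)).minimalPrimes := by
  have hle : (RingHom.ker (Cyc.specMap y x hxy)).map (algebraMap (X.presheaf.stalk y) R) ≤
      IsLocalRing.maximalIdeal R := Ideal.map_le_iff_le_comap.2 fun a ha =>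
    map_nonunit (algebraMap (X.presheaf.stalk y) R) a (IsLocalRing.le_maximalIdeal (RingHom.ker_ne_top _) ha)
  obtain ⟨P, hP, -⟩ := Ideal.exists_minimalPrimes_le hle
  exact ⟨P, hP⟩

/-- The strict henselisation at a point, over that point itself. -/
theorem cohDimLEAt_fibre_self (η : X) (R : Type u) [CommRing R] [IsLocalRing R] [Algebra (X.presheaf.stalk η) R]
    [IsLocalHom (algebraMap (X.presheaf.stalk η) R)] [Hensel.IsStrictHenselization (X.presheaf.stalk η) R]
    (hsp : η ⤳ η) (ℓ d : ℕ) (Q : Ideal R)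
    (hQ : Q ∈ ((RingHom.ker (Cyc.specMap η η hsp)).map (algebraMap (X.presheaf.stalk η) R)).minimalPrimes) :
    Dix.CohDimLEAt (Spec (CommRingCat.of (FractionRing (R ⧸ Q)))) ℓ d := by
  have hker : RingHom.ker (Cyc.specMap η η hsp) = IsLocalRing.maximalIdeal (X.presheaf.stalk η) := by
    rw [Cyc.specMap, TopCat.Presheaf.stalkSpecializes_refl]
    exact (congrArg (fun t => RingHom.ker (CommRingCat.Hom.hom t)) (Category.id_comp _)).trans
      IsLocalRing.ker_residue
  rw [hker, Hens.strictHenselization_map_maximalIdeal] at hQ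
  have hQm : Q = IsLocalRing.maximalIdeal R :=
    (IsLocalRing.le_maximalIdeal hQ.1.1.ne_top).antisymm hQ.1.2
  subst hQm
  haveI := Hensel.IsStrictHenselization.isSepClosure (R := X.presheaf.stalk η) (S := R)
  haveI : IsSepClosed (IsLocalRing.ResidueField R) :=
    IsSepClosure.sep_closed (IsLocalRing.ResidueField (X.presheaf.stalk η))
  letI : Field (R ⧸ IsLocalRing.maximalIdeal R) := Ideal.Quotient.field _
  haveI : IsSepClosed (R ⧸ IsLocalRing.maximalIdeal R) :=
    EtPic3.isSepClosed_of_ringEquiv (RingEquiv.refl (IsLocalRing.ResidueField R) :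
      IsLocalRing.ResidueField R ≃+* R ⧸ IsLocalRing.maximalIdeal R)
  haveI : IsSepClosed (FractionRing (R ⧸ IsLocalRing.maximalIdeal R)) :=
    EtPic3.isSepClosed_of_ringEquiv
      (FractionRing.algEquiv (R ⧸ IsLocalRing.maximalIdeal R) (R ⧸ IsLocalRing.maximalIdeal R)).symm.toRingEquiv
  exact fun G _ q hq => EtPic3.subsingleton_H_sepClosed _ G (Nat.lt_of_le_of_lt (Nat.zero_le d) hq)

variable (ℓ : ℕ) (φ : X → ℕ)
    (h1 : ∀ x : X, Dix.CohDimLEAt (Spec (X.residueField x)) ℓ (φ x))
    (h2 : ∀ (x y : X) (hxy : x ⤳ y), x ≠ y →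
      ∀ (R : Type u) [CommRing R] [IsLocalRing R] [Algebra (X.presheaf.stalk y) R]
      [IsLocalHom (algebraMap (X.presheaf.stalk y) R)] [Hensel.IsStrictHenselization (X.presheaf.stalk y) R],
      ∀ P ∈ ((RingHom.ker (Cyc.specMap y x hxy)).map (algebraMap (X.presheaf.stalk y) R)).minimalPrimes,
        ∃ d : ℕ, d + 1 + φ y ≤ φ x ∧ Dix.CohDimLEAt (Spec (CommRingCat.of (FractionRing (R ⧸ P)))) ℓ d)

include h1 h2 in
theorem cls_dimFn
    (hst : ∀ (η : X) (G : EtCoh.Ab (Spec (X.residueField η))) (i : ℕ),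
      FibVan3.StalkFormula (X.fromSpecResidueField η) G i) :
    Cls φ (fun F => CdP3.PTors ℓ F) where
  strict x y hxy hne := by
    obtain ⟨P, hP⟩ := exists_minimalPrime x y hxy (Hens.Hsh (X.presheaf.stalk y))
    obtain ⟨d, hd, -⟩ := h2 x y hxy hne (Hens.Hsh (X.presheaf.stalk y)) P hP
    omega
  kernel a hF _ := hF.of_mono (Limits.kernel.ι a)
  cokernel a _ hG := hG.of_epi (Limits.cokernel.π a)
  opens hF U := by
    haveI : QuasiCompact U.ι := inferInstance
    exact CdP3.PTors.of_primary (isPrimaryTorsion_push U.ι (FibVan3.isPrimaryTorsion_of_pTors (hF.pull _)))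
  point hF η := by
    haveI : QuasiCompact (X.fromSpecResidueField η) := quasiCompact_of_compactSpace _
    exact CdP3.PTors.of_primary (isPrimaryTorsion_push _ (FibVan3.isPrimaryTorsion_of_pTors (hF.pull _)))
  vanish hF η j hj := h1 η _ (FibVan3.isPrimaryTorsion_of_pTors (hF.pull _)) j hj
  higher {F} hF η i hi := by
    let G := (EtCoh.pull (X.fromSpecResidueField η)).obj F
    have hG : Dix.IsPrimaryTorsion ℓ G := FibVan3.isPrimaryTorsion_of_pTors (hF.pull _)
    refine ⟨CdP3.PTors.of_primary (isPrimaryTorsion_Rpush_point X η hG i), fun Ω _ _ ξ hξ => ?_⟩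
    let s := ξ (default : Spec (CommRingCat.of Ω))
    let R := Hens.Hsh (X.presheaf.stalk s)
    haveI := Hensel.IsStrictHenselization.isSepClosure (R := X.presheaf.stalk s) (S := R)
    haveI : IsSepClosed (IsLocalRing.ResidueField R) :=
      IsSepClosure.sep_closed (IsLocalRing.ResidueField (X.presheaf.stalk s))
    obtain ⟨e⟩ := hst η G i s R
    have hsi : φ η ≤ φ s + i := Nat.le_of_not_lt hξ
    haveI : Subsingleton (EtCoh.H (pullback (X.fromSpecResidueField η) (Hens2.specOf X s R))
        ((EtCoh.pull (pullback.fst (X.fromSpecResidueField η) (Hens2.specOf X s R))).obj G) i) := by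
      refine subsingleton_H_fibre η s R ℓ (i - 1) (fun hsp Q hQ => ?_) G hG i (by omega)
      by_cases hne : η = s
      · have aux : ∀ (t : X) (R : Type u) [CommRing R] [IsLocalRing R] [Algebra (X.presheaf.stalk t) R]
            [IsLocalHom (algebraMap (X.presheaf.stalk t) R)] [Hensel.IsStrictHenselization (X.presheaf.stalk t) R],
            η = t → ∀ (hsp : η ⤳ t) (Q : Ideal R),
              Q ∈ ((RingHom.ker (Cyc.specMap t η hsp)).map (algebraMap (X.presheaf.stalk t) R)).minimalPrimes →
              Dix.CohDimLEAt (Spec (CommRingCat.of (FractionRing (R ⧸ Q)))) ℓ (i - 1) := by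
          intro t R _ _ _ _ _ ht
          subst ht
          exact fun hsp Q hQ => cohDimLEAt_fibre_self η R hsp ℓ _ Q hQ
        exact aux s R hne hsp Q hQ
      · obtain ⟨d, hd, hcd⟩ := h2 η s hsp hne R Q hQ
        exact fun H hH q hq => hcd H hH q (by omega)
    haveI : Subsingleton ((EtCoh.stalk (Hens2.geomPt X s R)).obj
        ((EtCoh.Rpush (X.fromSpecResidueField η) i).obj G)) :=
      AddCommGrpCat.subsingleton_of_isZero ((AddCommGrpCat.isZero_of_subsingleton _).of_iso e)
    refine subsingleton_stalk_congr ξ (Hens2.geomPt X s R) ?_ inferInstance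
    show s = (Hens2.specOf X s R) ((Spec.map (CommRingCat.ofHom (IsLocalRing.residue R))) default)
    rw [show (Spec.map (CommRingCat.ofHom (IsLocalRing.residue R))) default = IsLocalRing.closedPoint R from ?_]
    · exact LocAcyc24.specOf_closedPoint.symm
    · exact (congrArg (Spec.map (CommRingCat.ofHom (IsLocalRing.residue R)))
        (Subsingleton.elim (default : Spec (CommRingCat.of (IsLocalRing.ResidueField R)))
          (IsLocalRing.closedPoint (IsLocalRing.ResidueField R)))).trans
        (IsLocalRing.comap_closedPoint (IsLocalRing.residue R))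

include h1 h2 in
theorem subsingleton_H_dimFn
    (hst : ∀ (η : X) (G : EtCoh.Ab (Spec (X.residueField η))) (i : ℕ),
      FibVan3.StalkFormula (X.fromSpecResidueField η) G i)
    (F : EtCoh.Ab X) (hF : Dix.IsPrimaryTorsion ℓ F) (q : ℕ) (hq : ∀ x ∈ EtPBC.supp F, φ x < q) :
    Subsingleton (EtCoh.H X F q) :=
  (cls_dimFn ℓ φ h1 h2 hst).subsingleton_H q F (CdP3.PTors.of_primary hF)
    ((suppIn_supp F).mono fun x hx => hq x hx) q le_rfl

end Groth.Agent.DimFn3
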