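import Groth.Agent.Lib.EtPic3.PushPoint
import Groth.Agent.Lib.FieldH25.Transfer

/-!
# Vanishing of the cohomology of a direct image from bounds on the higher direct images
-/

set_option autoImplicit false
set_option linter.style.haveILetI false
set_option backward.isDefEq.respectTransparency false
set_option backward.isDefEq.respectTransparency.types false
set_option maxHeartbeats 1000000

universe u

open CategoryTheory CategoryTheory.Limits AlgebraicGeometry Opposite CategoryTheory.Abelian
open Groth.Agent.EtStalk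

namespace Groth.Agent.DimFn3

variable {X Y : Scheme.{u}} (f : X ⟶ Y)

theorem subsingleton_H_push : ∀ (q : ℕ) (G : EtCoh.Ab X) (N : ℕ), N < q →
    (∀ j, N < j → Subsingleton (EtCoh.H X G j)) →
    (∀ i p, 0 < i → N ≤ p + i → Subsingleton (EtCoh.H Y ((EtCoh.Rpush f i).obj G) p)) →
    Subsingleton (EtCoh.H Y ((EtCoh.push f).obj G) q) := by
  intro q
  induction q with
  | zero => intro G N hN; exact absurd hN (Nat.not_lt_zero N)
  | succ q ih =>
    intro G N hN hG hR
    rcases q with _ | q
    · haveI := hG 1 hN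
      exact (EtPic3.injective_HofPush_one f G).subsingleton
    let S := ShortComplex.mk (Injective.ι G) (cokernel.π (Injective.ι G)) (cokernel.condition _)
    have hS : S.ShortExact := { exact := ShortComplex.exact_cokernel (Injective.ι G) }
    haveI : Injective S.X₂ := inferInstanceAs (Injective (Injective.under G))
    haveI : (EtCoh.push f).IsRightAdjoint := (EtCoh.pullPushAdj f).isRightAdjoint
    haveI := hS.mono_f
    let a := (EtCoh.push f).map S.f
    haveI : Mono a := inferInstance
    let T := ShortComplex.mk a (cokernel.π a) (cokernel.condition _)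
    have hT : T.ShortExact := { exact := ShortComplex.exact_cokernel a }
    haveI : Injective T.X₂ := injective_push f S.X₂
    haveI : PreservesLimitsOfSize.{0, 0} (EtCoh.push f) := (EtCoh.pullPushAdj f).rightAdjoint_preservesLimits
    haveI : PreservesFiniteLimits (EtCoh.push f) := PreservesLimitsOfSize.preservesFiniteLimits _
    let κ : T.X₃ ⟶ (EtCoh.push f).obj S.X₃ := cokernel.desc a ((EtCoh.push f).map S.g)
      (by rw [← Functor.map_comp, S.zero, Functor.map_zero])
    haveI : Mono κ := (hS.exact.map_of_mono_of_preservesKernel (EtCoh.push f) hS.mono_f inferInstance).mono_cokernelDesc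
    obtain ⟨R⟩ := RDerLES.exists_sesRes hS
    have hI : ∀ m, IsZero ((EtCoh.Rpush f (m + 1)).obj S.X₂) := fun m =>
      (EtCoh.push f).isZero_rightDerived_obj_injective_succ m S.X₂
    -- the higher direct images of the cokernel
    have hR' : ∀ i, 0 < i → Nonempty ((EtCoh.Rpush f i).obj S.X₃ ≅ (EtCoh.Rpush f (i + 1)).obj S.X₁) := by
      intro i hi
      obtain ⟨m, rfl⟩ := Nat.exists_eq_add_one.2 hi
      obtain ⟨-, ⟨w, hw⟩, w', hw'⟩ := RDerLES.exact_sequences (EtCoh.push f) R (m + 1) (m + 1 + 1) rfl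
      haveI : Mono (R.delta (EtCoh.push f) (m + 1) (m + 1 + 1) rfl) := hw.mono_g ((hI m).eq_of_src _ _)
      haveI : Epi (R.delta (EtCoh.push f) (m + 1) (m + 1 + 1) rfl) := hw'.epi_f ((hI (m + 1)).eq_of_tgt _ _)
      haveI := isIso_of_mono_of_epi (R.delta (EtCoh.push f) (m + 1) (m + 1 + 1) rfl)
      exact ⟨asIso (R.delta (EtCoh.push f) (m + 1) (m + 1 + 1) rfl)⟩
    -- the first one
    obtain ⟨-, ⟨w, hw⟩, w', hw'⟩ := RDerLES.exact_sequences (EtCoh.push f) R 0 1 rfl
    haveI : Epi (R.delta (EtCoh.push f) 0 1 rfl) := hw'.epi_f ((hI 0).eq_of_tgt _ _)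
    let e0 := (EtCoh.push f).rightDerivedZeroIsoSelf
    let d : (EtCoh.push f).obj S.X₃ ⟶ (EtCoh.Rpush f 1).obj S.X₁ :=
      e0.inv.app S.X₃ ≫ R.delta (EtCoh.push f) 0 1 rfl
    haveI : Epi d := epi_comp _ _
    have hgd : (EtCoh.push f).map S.g ≫ d = 0 := by
      show (EtCoh.push f).map S.g ≫ e0.inv.app S.X₃ ≫ _ = 0
      rw [← Category.assoc, e0.inv.naturality S.g, Category.assoc]
      erw [w]
      exact comp_zero
    have hgd' : (ShortComplex.mk _ _ hgd).Exact := by
      refine ShortComplex.exact_of_iso (S₁ := ShortComplex.mk _ _ w)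
        (ShortComplex.isoMk (e0.app S.X₂) (e0.app S.X₃) (Iso.refl _) ?_ ?_) hw
      · exact (e0.hom.naturality S.g).symm
      · show e0.hom.app S.X₃ ≫ e0.inv.app S.X₃ ≫ _ = _ ≫ 𝟙 _
        rw [Iso.hom_inv_id_app_assoc, Category.comp_id]
    have hκd : κ ≫ d = 0 := by
      rw [← cancel_epi (cokernel.π a), cokernel.π_desc_assoc, comp_zero]
      exact hgd
    let Q := ShortComplex.mk κ d hκd
    let φ : ShortComplex.mk _ _ hgd ⟶ Q :=
      { τ₁ := T.g, τ₂ := 𝟙 _, τ₃ := 𝟙 _
        comm₁₂ := by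
          show T.g ≫ κ = (EtCoh.push f).map S.g ≫ 𝟙 _
          rw [Category.comp_id]
          exact cokernel.π_desc _ _ _
        comm₂₃ := by simp [Q] }
    haveI : Epi φ.τ₁ := inferInstanceAs (Epi (cokernel.π a))
    haveI : IsIso φ.τ₂ := inferInstanceAs (IsIso (𝟙 _))
    haveI : Mono φ.τ₃ := inferInstanceAs (Mono (𝟙 _))
    have hQ : Q.ShortExact :=
      { exact := (ShortComplex.exact_iff_of_epi_of_isIso_of_mono φ).1 hgd' }
    haveI hG' : Subsingleton (EtCoh.H Y ((EtCoh.push f).obj S.X₃) (q + 1)) := by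
      refine ih S.X₃ (N - 1) (by omega) (fun j hj => ?_) (fun i p hi hp => ?_)
      · haveI := hG (j + 1) (by omega)
        refine subsingleton_of_forall_eq 0 fun z => ?_
        obtain ⟨y, hy⟩ := Ext.covariant_sequence_exact₃ _ hS z rfl (Subsingleton.elim _ 0)
        obtain ⟨m, rfl⟩ : ∃ m, j = m + 1 := ⟨j - 1, by omega⟩
        rw [← hy, Ext.eq_zero_of_injective (I := S.X₂) y, Ext.zero_comp]
      · obtain ⟨e⟩ := hR' i hi
        haveI := hR (i + 1) p (Nat.succ_pos i) (by omega)
        exact subsingleton_of_forall_eq 0 fun z =>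
          FieldH25.eq_zero_of_comp_iso z e (Subsingleton.elim (α := EtCoh.H Y ((EtCoh.Rpush f (i + 1)).obj G) p) _ _)
    haveI hR1 : Subsingleton (EtCoh.H Y ((EtCoh.Rpush f 1).obj G) q) := hR 1 q one_pos (by omega)
    refine subsingleton_of_forall_eq 0 fun x => ?_
    obtain ⟨c, rfl⟩ := Ext.covariant_sequence_exact₁ _ hT x (Ext.eq_zero_of_injective _) (n₀ := q + 1) rfl
    have hc : c = 0 := by
      obtain ⟨b, hb⟩ := Ext.covariant_sequence_exact₁ _ hQ c
        (Subsingleton.elim (α := EtCoh.H Y ((EtCoh.push f).obj S.X₃) (q + 1)) _ 0) (n₀ := q) rfl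
      rw [← hb, show b = 0 from Subsingleton.elim (α := EtCoh.H Y ((EtCoh.Rpush f 1).obj G) q) b 0, Ext.zero_comp]
    rw [hc, Ext.zero_comp]

end Groth.Agent.DimFn3
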