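import Groth.Agent.Lib.DimFn3.Supp
import Groth.Agent.Lib.DimFn3.Shift
import Groth.Agent.Lib.DimFn3.Point

/-!
# Dévissage along a dimension function
-/

set_option autoImplicit false
set_option linter.style.haveILetI false
set_option backward.isDefEq.respectTransparency false
set_option backward.isDefEq.respectTransparency.types false
set_option maxHeartbeats 1000000

universe u

open CategoryTheory CategoryTheory.Limits AlgebraicGeometry Opposite CategoryTheory.Abelian
open Groth.Agent.EtStalk

namespace Groth.Agent.DimFn3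

variable {X : Scheme.{u}}

/-- A class of sheaves on which vanishing above a dimension function is proved by dévissage. -/
structure Cls (φ : X → ℕ) (P : EtCoh.Ab X → Prop) : Prop where
  strict : ∀ x y : X, x ⤳ y → x ≠ y → φ y < φ x
  kernel : ∀ {F G : EtCoh.Ab X} (a : F ⟶ G), P F → P G → P (Limits.kernel a)
  cokernel : ∀ {F G : EtCoh.Ab X} (a : F ⟶ G), P F → P G → P (Limits.cokernel a)
  opens : ∀ {F : EtCoh.Ab X}, P F → ∀ U : X.Opens, P ((EtCoh.push U.ι).obj ((EtCoh.pull U.ι).obj F))
  point : ∀ {F : EtCoh.Ab X}, P F → ∀ η : X,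
    P ((EtCoh.push (X.fromSpecResidueField η)).obj ((EtCoh.pull (X.fromSpecResidueField η)).obj F))
  vanish : ∀ {F : EtCoh.Ab X}, P F → ∀ (η : X) (j : ℕ), φ η < j →
    Subsingleton (EtCoh.H (Spec (X.residueField η)) ((EtCoh.pull (X.fromSpecResidueField η)).obj F) j)
  higher : ∀ {F : EtCoh.Ab X}, P F → ∀ (η : X) (i : ℕ), 0 < i →
    P ((EtCoh.Rpush (X.fromSpecResidueField η) i).obj ((EtCoh.pull (X.fromSpecResidueField η)).obj F)) ∧
      SuppIn ((EtCoh.Rpush (X.fromSpecResidueField η) i).obj ((EtCoh.pull (X.fromSpecResidueField η)).obj F))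
        {y | φ y + i < φ η}

theorem stableUnderSpecialization_lt {φ : X → ℕ} (h : ∀ x y : X, x ⤳ y → x ≠ y → φ y < φ x) (n : ℕ) :
    StableUnderSpecialization {x | φ x < n} := fun x y hxy hx => by
  by_cases e : x = y
  · exact e ▸ hx
  · exact Nat.lt_trans (h x y hxy e) hx

variable [IsNoetherian X] {φ : X → ℕ} {P : EtCoh.Ab X → Prop} (hP : Cls φ P)

include hP in
/-- Classes come from subsheaves supported in finitely many points and a smaller layer. -/
theorem Cls.of_finite (n q : ℕ)
    (h : ∀ T : Finset X, (∀ t ∈ T, φ t ≤ n) → ∀ F : EtCoh.Ab X, P F →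
      SuppIn F ({x | φ x < n} ∪ (T : Set X)) → Subsingleton (EtCoh.H X F q))
    (F : EtCoh.Ab X) (hF : P F) (hs : SuppIn F {x | φ x < n + 1}) : Subsingleton (EtCoh.H X F q) := by
  classical
  refine subsingleton_of_forall_eq 0 fun z => ?_
  obtain ⟨m, y, rfl⟩ := exists_closed_supp F (stableUnderSpecialization_lt hP.strict (n + 1)) hs z
  haveI : TopologicalSpace.NoetherianSpace X := inferInstance
  obtain ⟨S, hS, hSf, hirr, hZ⟩ :=
    TopologicalSpace.NoetherianSpace.exists_finite_set_isClosed_irreducible m.val.down.2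
  haveI := hS.fintype
  let gen : S → X := fun C => (hirr C C.2).genericPoint
  let T : Finset X := Finset.univ.image gen
  have hgen : ∀ C : S, gen C ∈ m.val.down ∧ ∀ c ∈ (C : Set X), gen C ⤳ c := fun C => by
    refine ⟨?_, fun c hc => (hirr C C.2).isGenericPoint_genericPoint_closure.specializes (subset_closure hc)⟩
    show gen C ∈ (m.val.down : Set X)
    rw [show (m.val.down : Set X) = ⋃₀ S from hZ]
    refine ⟨C, C.2, ?_⟩
    have := (hirr C C.2).isGenericPoint_genericPoint_closure.mem
    rwa [(hSf C C.2).closure_eq] at this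
  have hle : ∀ x ∈ m.val.down, φ x ≤ n := fun x hx => Nat.le_of_lt_succ (m.le hx)
  haveI := h T (fun t ht => by
      obtain ⟨C, -, rfl⟩ := Finset.mem_image.1 ht
      exact hle _ (hgen C).1)
    (Limits.kernel (cplMap F m)) (hP.kernel _ hF (hP.opens hF _)) ((suppIn_kernel F m).mono fun x hx => by
      have hx' : x ∈ ⋃₀ S := (show (m.val.down : Set X) = ⋃₀ S from hZ) ▸ hx
      obtain ⟨C, hC, hxC⟩ := hx'
      by_cases e : gen ⟨C, hC⟩ = x
      · exact Or.inr (e ▸ Finset.mem_coe.2 (Finset.mem_image_of_mem _ (Finset.mem_univ _)))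
      · exact Or.inl (lt_of_lt_of_le (hP.strict _ _ ((hgen ⟨C, hC⟩).2 x hxC) e) (hle _ (hgen ⟨C, hC⟩).1)))
  rw [Subsingleton.elim (α := EtCoh.H X (Limits.kernel (cplMap F m)) q) y 0, Ext.zero_comp]

include hP in
/-- Cohomology vanishes above the dimension function on the support. -/
theorem Cls.subsingleton_H : ∀ (n : ℕ) (F : EtCoh.Ab X), P F → SuppIn F {x | φ x < n} →
    ∀ q : ℕ, n ≤ q → Subsingleton (EtCoh.H X F q) := by
  intro n
  induction n using Nat.strong_induction_on with
  | _ n ih =>
    rcases n with _ | n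
    · intro F _ hs q _
      have hz : IsZero F := isZero_of_suppIn_empty (hs.mono fun x hx => (Nat.not_lt_zero _ hx).elim)
      exact subsingleton_of_forall_eq 0 fun c => by
        rw [← Ext.comp_mk₀_id c, hz.eq_of_src (𝟙 F) 0, Ext.mk₀_zero, Ext.comp_zero]
    intro F hF hs q hq
    refine hP.of_finite n q (fun T => ?_) F hF hs
    classical
    induction T using Finset.induction_on with
    | empty =>
      intro _ G hG hs
      exact ih n (Nat.lt_succ_self n) G hG (hs.mono fun x hx => hx.resolve_right (by simp)) q (Nat.le_of_succ_le hq)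
    | insert t T _ ihT =>
      intro hT G hG hs
      let j := X.fromSpecResidueField t
      let u : G ⟶ (EtCoh.push j).obj ((EtCoh.pull j).obj G) := (EtCoh.pullPushAdj j).unit.app G
      have ht : φ t ≤ n := hT t (Finset.mem_insert_self _ _)
      -- the direct image from the point
      have hpush : Subsingleton (EtCoh.H X ((EtCoh.push j).obj ((EtCoh.pull j).obj G)) q) := by
        refine subsingleton_H_push j q _ (φ t) (by omega) (fun i hi => hP.vanish hG t i hi) fun i p hi hp => ?_
        obtain ⟨h1, h2⟩ := hP.higher hG t i hi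
        exact ih (φ t - i) (by omega) _ h1 (h2.mono fun y (hy : φ y + i < φ t) => show φ y < φ t - i by omega) p
          (by omega)
      -- the cokernel is supported below
      have hC : SuppIn (Limits.cokernel u) {x | φ x < n} := by
        intro Ω _ _ ξ hξ
        have hsurj := (epi_iff_stalk (cokernel.π u)).1 inferInstance Ω ξ
        by_cases e : ξ (default : Spec (CommRingCat.of Ω)) = t
        · refine subsingleton_of_forall_eq 0 fun c => ?_
          obtain ⟨b, rfl⟩ := hsurj c
          obtain ⟨a, rfl⟩ := (bijective_stalk_unit t G ξ e).2 b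
          show (EtCoh.stalk ξ).map (cokernel.π u) ((EtCoh.stalk ξ).map u a) = 0
          rw [← ConcreteCategory.comp_apply, ← Functor.map_comp, cokernel.condition, Functor.map_zero]
          rfl
        · haveI := subsingleton_stalk_push t ((EtCoh.pull j).obj G) ξ fun hsp =>
            hξ (lt_of_lt_of_le (hP.strict t _ hsp (Ne.symm e)) ht)
          exact hsurj.subsingleton
      -- the kernel has one point less
      have hK : SuppIn (Limits.kernel u) ({x | φ x < n} ∪ (T : Set X)) := by
        intro Ω _ _ ξ hξ
        have hinj := (mono_iff_stalk (kernel.ι u)).1 inferInstance Ω ξ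
        by_cases e : ξ (default : Spec (CommRingCat.of Ω)) = t
        · refine subsingleton_of_forall_eq 0 fun c => hinj ((bijective_stalk_unit t G ξ e).1 ?_)
          rw [map_zero, map_zero]
          show (EtCoh.stalk ξ).map u ((EtCoh.stalk ξ).map (kernel.ι u) c) = 0
          rw [← ConcreteCategory.comp_apply, ← Functor.map_comp, kernel.condition, Functor.map_zero]
          rfl
        · haveI := hs Ω ξ fun h => hξ <| h.imp_right fun h' => by
            simpa [e] using h'
          exact hinj.subsingleton
      have hPK := hP.kernel u hG (hP.point hG t)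
      have hPC := hP.cokernel u hG (hP.point hG t)
      haveI hHK := ihT (fun s hs => hT s (Finset.mem_insert_of_mem hs)) _ hPK hK
      let S₂ := ShortComplex.mk (Limits.cokernel.desc (kernel.ι u) u (kernel.condition u)) (cokernel.π u)
        (by rw [← cancel_epi (cokernel.π (kernel.ι u)), cokernel.π_desc_assoc, cokernel.condition, comp_zero])
      haveI : Mono S₂.f := ((ShortComplex.exact_of_f_is_kernel (ShortComplex.mk _ _ (kernel.condition u))
        (kernelIsKernel u)).mono_cokernelDesc)
      have hS₂ : S₂.ShortExact := by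
        let ψ : ShortComplex.mk u (cokernel.π u) (cokernel.condition u) ⟶ S₂ :=
          { τ₁ := cokernel.π (kernel.ι u), τ₂ := 𝟙 _, τ₃ := 𝟙 _
            comm₁₂ := by simp [S₂]
            comm₂₃ := by simp [S₂] }
        haveI : Epi ψ.τ₁ := inferInstanceAs (Epi (cokernel.π _))
        haveI : IsIso ψ.τ₂ := inferInstanceAs (IsIso (𝟙 _))
        haveI : Mono ψ.τ₃ := inferInstanceAs (Mono (𝟙 _))
        exact { exact := (ShortComplex.exact_iff_of_epi_of_isIso_of_mono ψ).1 (ShortComplex.exact_cokernel u) }
      let S₁ := ShortComplex.mk (kernel.ι u) (cokernel.π (kernel.ι u)) (cokernel.condition _)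
      have hS₁ : S₁.ShortExact := { exact := ShortComplex.exact_cokernel (kernel.ι u) }
      haveI hHI : Subsingleton (EtCoh.H X S₂.X₁ q) := subsingleton_of_forall_eq 0 fun c => by
        obtain ⟨b, hb⟩ := Ext.covariant_sequence_exact₁ _ hS₂ c
          (Subsingleton.elim (h := hpush) _ 0) (n₀ := q - 1) (show q - 1 + 1 = q by omega)
        haveI := ih n (Nat.lt_succ_self n) _ hPC hC (q - 1) (by omega)
        rw [← hb, show b = 0 from Subsingleton.elim (α := EtCoh.H X (Limits.cokernel u) (q - 1)) b 0, Ext.zero_comp]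
      refine subsingleton_of_forall_eq 0 fun c => ?_
      obtain ⟨b, rfl⟩ := Ext.covariant_sequence_exact₂ _ hS₁ c
        (Subsingleton.elim (α := EtCoh.H X S₂.X₁ q) _ 0)
      rw [show b = 0 from Subsingleton.elim (α := EtCoh.H X (Limits.kernel u) q) b 0, Ext.zero_comp]

end Groth.Agent.DimFn3
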