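import Groth.Agent.Lib.EtPic3.PushTorsion
import Groth.Agent.Lib.EtPic3.Killed
import Groth.Agent.Lib.FibVan3.Main

/-!
# Direct images of primary torsion sheaves
-/

set_option autoImplicit false
set_option linter.style.haveILetI false
set_option backward.isDefEq.respectTransparency false
set_option backward.isDefEq.respectTransparency.types false
set_option maxHeartbeats 1000000

universe u

open CategoryTheory CategoryTheory.Limits AlgebraicGeometry Opposite CategoryTheory.Abelian
open Groth.Agent.EtStalk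

namespace Groth.Agent.DimFn3

variable {X Y : Scheme.{u}} {ℓ : ℕ}

/-- On a compact object every section of a primary torsion sheaf is killed by a power. -/
theorem exists_pow_nsmul_eq_zero {F : EtCoh.Ab X} (hF : Dix.IsPrimaryTorsion ℓ F) (U : X.Etale)
    [CompactSpace U.left] (s : F.obj.obj (op U)) : ∃ k : ℕ, ℓ ^ k • s = 0 := by
  have hloc : ∀ x : U.left, ∃ k : ℕ, x ∈ agree F (ℓ ^ k • s) 0 := fun x => by
    obtain ⟨V, g, ⟨v, hv⟩, k, hk⟩ := hF U s x
    exact ⟨k, V, g, ⟨v, hv⟩, by rw [map_nsmul, map_zero]; exact hk⟩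
  choose k hk using hloc
  obtain ⟨t, ht⟩ := isCompact_univ.elim_finite_subcover (fun x => agree F (ℓ ^ k x • s) 0)
    (fun x => isOpen_agree F _ _) fun x _ => Set.mem_iUnion.2 ⟨x, hk x⟩
  refine ⟨t.sup k, eq_of_agree F fun x => ?_⟩
  obtain ⟨i, hi, hxi⟩ := Set.mem_iUnion₂.1 (ht (Set.mem_univ x))
  obtain ⟨V, g, hx, he⟩ := hxi
  refine ⟨V, g, hx, ?_⟩
  rw [map_nsmul, map_zero] at he
  rw [map_nsmul, map_zero, ← Nat.sub_add_cancel (Finset.le_sup (f := k) hi), pow_add, mul_nsmul', he, nsmul_zero]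

/-- Direct images along quasi-compact morphisms keep primary torsion. -/
theorem isPrimaryTorsion_push (f : X ⟶ Y) [QuasiCompact f] {F : EtCoh.Ab X} (hF : Dix.IsPrimaryTorsion ℓ F) :
    Dix.IsPrimaryTorsion ℓ ((EtCoh.push f).obj F) := fun U s x => by
  obtain ⟨A, hA, hxA, -⟩ := exists_isAffineOpen_mem_and_subset (X := U.left) (x := x) (U := ⊤) trivial
  let V := EtSite.sub U A
  refine ⟨V, EtSite.subHom U A, ⟨⟨x, hxA⟩, rfl⟩, ?_⟩
  haveI : IsAffine V.left := hA
  haveI : CompactSpace ((𝟭 Scheme).obj V.left) := inferInstanceAs (CompactSpace V.left)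
  haveI : QuasiCompact (pullback.fst V.hom f) := inferInstance
  haveI : CompactSpace ((EtCoh.bc f).obj V).left :=
    QuasiCompact.compactSpace_of_compactSpace (pullback.fst V.hom f : _ ⟶ V.left)
  exact exists_pow_nsmul_eq_zero hF ((EtCoh.bc f).obj V) _

theorem isPrimaryTorsion_iff_isPTor (F : EtCoh.Ab X) :
    Dix.IsPrimaryTorsion ℓ F ↔ EtPic3.IsPTor (Submonoid.powers ℓ) F := by
  refine ⟨fun h U s x => ?_, fun h U s x => ?_⟩
  · obtain ⟨V, g, hv, k, hk⟩ := h U s x
    exact ⟨V, g, hv, ℓ ^ k, ⟨k, rfl⟩, hk⟩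
  · obtain ⟨V, g, hv, N, ⟨k, rfl⟩, hk⟩ := h U s x
    exact ⟨V, g, hv, k, hk⟩

variable (X) [CompactSpace X] [QuasiSeparatedSpace X] (x : X)

/-- The values of the higher direct image presheaves of a primary sheaf are killed by powers. -/
theorem killed_rpushPsh_point {F : EtCoh.Ab (Spec (X.residueField x))} (hF : Dix.IsPrimaryTorsion ℓ F) (n : ℕ)
    (V : X.Etale) [IsAffine V.left]
    (y : ((((EtColim.pushPsh (X.fromSpecResidueField x)).rightDerived n).obj F).obj (op V))) :
    EtPic3.Killed (Submonoid.powers ℓ) y := by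
  let f := X.fromSpecResidueField x
  let W := (EtCoh.bc f).obj V
  haveI : AlgebraicGeometry.Etale W.hom := W.prop
  haveI : CompactSpace W.left := EtPic3.compactSpace_bc X x V
  haveI : QuasiSeparatedSpace W.left := by
    haveI : CompactSpace ((𝟭 Scheme).obj W.left) := inferInstanceAs (CompactSpace W.left)
    haveI := EtPic3.discreteTopology_of_etale_field (κ := (X.residueField x : Type u)) W.hom
    haveI : Finite ((𝟭 Scheme).obj W.left : Scheme) := finite_of_compact_of_discrete
    haveI : IsAffine ((𝟭 Scheme).obj W.left) := inferInstance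
    exact inferInstanceAs (QuasiSeparatedSpace ((𝟭 Scheme).obj W.left : Scheme))
  haveI : ((evaluation X.Etaleᵒᵖ AddCommGrpCat.{u + 1}).obj (op V)).Additive := { }
  haveI : (EtColim.pushPsh f).Additive := { }
  let e := (RDComp.rightDerivedPostIso (EtColim.pushPsh f) ((evaluation X.Etaleᵒᵖ AddCommGrpCat.{u + 1}).obj (op V)) n).symm ≪≫
    (ExtDerived.rightDerivedMapIso n (EtColim.zExtSectIso W)).symm ≪≫
      ExtDerived.rightDerivedCoyonedaNatIso (EtStalk.zExt W.hom) n
  let e' := (e.app F).addCommGroupIsoToAddEquiv.trans (EtStalk.extCohEquiv W.hom F n)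
  have hW : EtPic3.IsPTor (Submonoid.powers ℓ) ((EtCoh.pull W.hom).obj F) :=
    (isPrimaryTorsion_iff_isPTor _).1 (FibVan3.isPrimaryTorsion_of_pTors ((CdP3.PTors.of_primary hF).pull W.hom))
  exact EtPic3.killed_of_injective e'.toAddMonoidHom e'.injective
    (EtPic3.killed_H (X := W.left) (Submonoid.powers ℓ) ((EtCoh.pull W.hom).obj F) hW n (e' y))

/-- The higher direct images of a primary sheaf from a point are primary. -/
theorem isPrimaryTorsion_Rpush_point {F : EtCoh.Ab (Spec (X.residueField x))} (hF : Dix.IsPrimaryTorsion ℓ F) (n : ℕ) :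
    Dix.IsPrimaryTorsion ℓ ((EtCoh.Rpush (X.fromSpecResidueField x) n).obj F) := by
  let f := X.fromSpecResidueField x
  let L := presheafToSheaf X.smallEtaleTopology AddCommGrpCat.{u + 1}
  haveI : L.Additive := presheafToSheaf_additive
  haveI : (EtColim.pushPsh f).Additive := { }
  let e : EtColim.pushPsh f ⋙ L ≅ EtCoh.push f :=
    Functor.isoWhiskerLeft (EtCoh.push f)
      (asIso (sheafificationAdjunction X.smallEtaleTopology AddCommGrpCat.{u + 1}).counit) ≪≫ (EtCoh.push f).rightUnitor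
  let P := ((EtColim.pushPsh f).rightDerived n).obj F
  have h : Dix.IsPrimaryTorsion ℓ (L.obj P) := fun U s u => by
    have hcov := Presheaf.imageSieve_mem X.smallEtaleTopology (toSheafify X.smallEtaleTopology P) (U := op U) s
    rw [EtSite.mem_et_iff] at hcov
    obtain ⟨V, g, v, ⟨p, hp⟩, hv⟩ := hcov u
    obtain ⟨A, hA, hvA, -⟩ := exists_isAffineOpen_mem_and_subset (X := V.left) (x := v) (U := ⊤) trivial
    haveI : IsAffine (EtSite.sub V A).left := hA
    refine ⟨EtSite.sub V A, EtSite.subHom V A ≫ g, ⟨⟨v, hvA⟩, hv⟩, ?_⟩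
    rw [op_comp, Functor.map_comp_apply]
    have h1 : (L.obj P).obj.map (EtSite.subHom V A).op ((L.obj P).obj.map g.op s) =
        (toSheafify X.smallEtaleTopology P).app (op (EtSite.sub V A)) (P.map (EtSite.subHom V A).op p) := by
      rw [NatTrans.naturality_apply]
      exact congrArg _ hp.symm
    rw [h1]
    obtain ⟨N, ⟨k, rfl⟩, hk⟩ := killed_rpushPsh_point X x hF n (EtSite.sub V A) (P.map (EtSite.subHom V A).op p)
    exact ⟨k, by rw [← map_nsmul, hk, map_zero]⟩
  exact FibVan3.isPrimaryTorsion_of_pTors ((CdP3.PTors.of_primary h).of_iso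
    (((RDComp.rightDerivedPostIso (EtColim.pushPsh f) L n).symm ≪≫ ExtDerived.rightDerivedMapIso n e).app F))

end Groth.Agent.DimFn3
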