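import Groth.Agent.Lib.DimFn3.Engine
import Groth.Agent.Lib.EtPic3.PushTorsion
import Groth.Agent.Lib.VarDim.Top

/-!
# Uniquely divisible sheaves
-/

set_option autoImplicit false
set_option linter.style.haveILetI false
set_option backward.isDefEq.respectTransparency false
set_option backward.isDefEq.respectTransparency.types false
set_option maxHeartbeats 1000000

universe u

open CategoryTheory CategoryTheory.Limits AlgebraicGeometry Opposite CategoryTheory.Abelian
open Groth.Agent.EtStalk

namespace Groth.Agent.DimFn3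

/-- Multiplication by every positive integer is an isomorphism. -/
def Divisible {X : Scheme.{u}} (F : EtCoh.Ab X) : Prop := ∀ m : ℕ, 0 < m → IsIso (m • 𝟙 F)

variable {X Y : Scheme.{u}}

theorem Divisible.map {F : EtCoh.Ab X} (h : Divisible F) (Φ : EtCoh.Ab X ⥤ EtCoh.Ab Y) [Φ.Additive] :
    Divisible (Φ.obj F) := fun m hm => by
  haveI := h m hm
  rw [← Φ.map_id, ← Functor.map_nsmul]
  infer_instance

theorem Divisible.kernel {F G : EtCoh.Ab X} (a : F ⟶ G) (hF : Divisible F) (hG : Divisible G) :
    Divisible (Limits.kernel a) := fun m hm => by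
  haveI := hF m hm
  haveI := hG m hm
  have w : a ≫ (m • 𝟙 G) = (m • 𝟙 F) ≫ a := by
    rw [Preadditive.comp_nsmul, Preadditive.nsmul_comp, Category.comp_id, Category.id_comp]
  have e : m • 𝟙 (Limits.kernel a) = (kernel.mapIso a a (asIso (m • 𝟙 F)) (asIso (m • 𝟙 G)) w).hom := by
    rw [← cancel_mono (kernel.ι a)]
    show (m • 𝟙 (Limits.kernel a)) ≫ kernel.ι a = kernel.map a a (m • 𝟙 F) (m • 𝟙 G) w ≫ kernel.ι a
    rw [kernel.lift_ι, Preadditive.nsmul_comp, Category.id_comp, Preadditive.comp_nsmul, Category.comp_id]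
  rw [e]
  infer_instance

theorem Divisible.cokernel {F G : EtCoh.Ab X} (a : F ⟶ G) (hF : Divisible F) (hG : Divisible G) :
    Divisible (Limits.cokernel a) := fun m hm => by
  haveI := hF m hm
  haveI := hG m hm
  have w : a ≫ (m • 𝟙 G) = (m • 𝟙 F) ≫ a := by
    rw [Preadditive.comp_nsmul, Preadditive.nsmul_comp, Category.comp_id, Category.id_comp]
  have e : m • 𝟙 (Limits.cokernel a) = (cokernel.mapIso a a (asIso (m • 𝟙 F)) (asIso (m • 𝟙 G)) w).hom := by
    rw [← cancel_epi (cokernel.π a)]
    show cokernel.π a ≫ (m • 𝟙 (Limits.cokernel a)) = cokernel.π a ≫ cokernel.map a a (m • 𝟙 F) (m • 𝟙 G) w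
    rw [cokernel.π_desc, Preadditive.comp_nsmul, Category.comp_id, Preadditive.nsmul_comp, Category.id_comp]
  rw [e]
  infer_instance

/-- Torsion uniquely divisible sheaves vanish. -/
theorem Divisible.isZero_of_torsion {F : EtCoh.Ab X} (h : Divisible F) (ht : EtCoh.IsTorsion F) : IsZero F := by
  refine (isZero_iff_stalk F).2 fun Ω _ _ ξ => ?_
  refine @AddCommGrpCat.isZero_of_subsingleton _ (subsingleton_of_forall_eq 0 fun p => ?_)
  obtain ⟨U, x, s, rfl⟩ := germ_surjective _ _ p
  rw [← map_zero (germ ξ F x).hom]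
  refine (mem_agree_iff_germ F x s 0).1 ?_
  obtain ⟨V, g, hv, hfin⟩ := ht U s (fibPt x)
  obtain ⟨m, hm, h0⟩ := isOfFinAddOrder_iff_nsmul_eq_zero.1 hfin
  haveI := h m hm
  refine ⟨V, g, hv, ?_⟩
  rw [map_zero]
  refine (mono_iff_app_injective (m • 𝟙 F)).1 inferInstance (op V) ?_
  have e : ∀ t, (m • 𝟙 F).hom.app (op V) t = m • t := fun t =>
    let ev : (F ⟶ F) →+ F.obj.obj (op V) := AddMonoidHom.mk' (fun a => a.hom.app (op V) t) fun _ _ => rfl
    map_nsmul ev m (𝟙 F)
  rw [e, e, nsmul_zero]
  exact h0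

/-- Uniquely divisible sheaves over a field are acyclic. -/
theorem Divisible.subsingleton_H_field {κ : Type u} [Field κ] {G : EtCoh.Ab (Spec (CommRingCat.of κ))}
    (h : Divisible G) {j : ℕ} (hj : 0 < j) : Subsingleton (EtCoh.H (Spec (CommRingCat.of κ)) G j) := by
  refine subsingleton_of_forall_eq 0 fun z => ?_
  obtain ⟨m, hm, h0⟩ := isOfFinAddOrder_iff_nsmul_eq_zero.1 (FieldH25.isOfFinAddOrder_H G hj z)
  haveI := h m hm
  refine FieldH25.eq_zero_of_comp_iso z (asIso (m • 𝟙 G)) ?_
  show z.comp (Ext.mk₀ (m • 𝟙 G)) (add_zero j) = 0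
  rw [show Ext.mk₀ (m • 𝟙 G) = m • Ext.mk₀ (𝟙 G) from map_nsmul (Ext.addEquiv₀ (X := G) (Y := G)).symm m (𝟙 G)]
  show z.precomp G (add_zero j) (m • Ext.mk₀ (𝟙 G)) = 0
  rw [map_nsmul]
  show m • z.comp (Ext.mk₀ (𝟙 G)) (add_zero j) = 0
  rw [Ext.comp_mk₀_id]
  exact h0

variable [IsNoetherian X]

attribute [local instance] specializationOrder in
theorem subsingleton_H_divisible (d : ℕ) (hd : topologicalKrullDim X ≤ d) (F : EtCoh.Ab X) (hF : Divisible F)
    (q : ℕ) (hq : d < q) : Subsingleton (EtCoh.H X F q) := by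
  have hle : ∀ x : X, Order.height x ≤ (d : ℕ∞) := fun x => by
    have h : ((Order.height x : ℕ∞) : WithBot ℕ∞) ≤ topologicalKrullDim X := by
      rw [VarDim.scheme_dim_eq_iSup_height]
      exact le_iSup (fun x : X => ((Order.height x : ℕ∞) : WithBot ℕ∞)) x
    exact_mod_cast h.trans hd
  have hf : ∀ x : X, ∃ n : ℕ, Order.height x = n := fun x => by
    obtain ⟨n, hn⟩ := ENat.ne_top_iff_exists.1 (lt_of_le_of_lt (hle x) (ENat.natCast_lt_top d)).ne
    exact ⟨n, hn.symm⟩
  choose φ hφ using hf
  have hC : Cls φ (Divisible (X := X)) :=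
    { strict := fun x y hxy hne => by
        have h1 : y < x := lt_of_le_of_ne hxy (Ne.symm hne)
        have h2 := Order.height_strictMono h1 (by rw [hφ]; exact ENat.natCast_lt_top _)
        rw [hφ, hφ] at h2
        exact ENat.natCast_lt_natCast.1 h2
      kernel := Divisible.kernel
      cokernel := Divisible.cokernel
      opens := fun hF U => by
        haveI : (EtCoh.pull U.ι).Additive := (EtCoh.pullPushAdj U.ι).left_adjoint_additive
        haveI : (EtCoh.push U.ι).Additive := (EtCoh.pullPushAdj U.ι).right_adjoint_additive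
        exact (hF.map _).map _
      point := fun hF η => by
        haveI : (EtCoh.pull (X.fromSpecResidueField η)).Additive := (EtCoh.pullPushAdj _).left_adjoint_additive
        haveI : (EtCoh.push (X.fromSpecResidueField η)).Additive := (EtCoh.pullPushAdj _).right_adjoint_additive
        exact (hF.map _).map _
      vanish := fun hF η j hj => by
        haveI : (EtCoh.pull (X.fromSpecResidueField η)).Additive := (EtCoh.pullPushAdj _).left_adjoint_additive
        exact (hF.map _).subsingleton_H_field (κ := (X.residueField η : Type u)) (Nat.lt_of_le_of_lt (Nat.zero_le _) hj)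
      higher := fun {F} hF η i hi => by
        haveI : (EtCoh.pull (X.fromSpecResidueField η)).Additive := (EtCoh.pullPushAdj _).left_adjoint_additive
        haveI : (EtCoh.push (X.fromSpecResidueField η)).Additive := (EtCoh.pullPushAdj _).right_adjoint_additive
        haveI : (EtCoh.Rpush (X.fromSpecResidueField η) i).Additive :=
          inferInstanceAs (((EtCoh.push (X.fromSpecResidueField η)).rightDerived i).Additive)
        have hR := (hF.map (EtCoh.pull (X.fromSpecResidueField η))).map (EtCoh.Rpush (X.fromSpecResidueField η) i)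
        have hz := hR.isZero_of_torsion (EtPic3.isTorsion_Rpush_point X η _ hi)
        exact ⟨hR, fun Ω _ _ ξ _ => AddCommGrpCat.subsingleton_of_isZero ((isZero_iff_stalk _).1 hz Ω ξ)⟩ }
  exact hC.subsingleton_H (d + 1) F hF (fun Ω _ _ ξ h => absurd (show φ (ξ default) < d + 1 by
    have := hle (ξ default); rw [hφ] at this; exact Nat.lt_succ_of_le (ENat.natCast_le_natCast.1 this)) h) q hq

omit [AlgebraicGeometry.IsNoetherian X] in
theorem divisible_of_sections (F : EtCoh.Ab X)
    (hF : ∀ (U : X.Etale) (m : ℕ), 0 < m → Function.Bijective (fun s : EtCoh.sect F U => m • s)) : Divisible F := by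
  intro m hm
  haveI : ∀ U : (X.Etale)ᵒᵖ, IsIso (((sheafToPresheaf _ _).map (m • 𝟙 F)).app U) := fun U => by
    refine (ConcreteCategory.isIso_iff_bijective _).2 ?_
    have e : ⇑(((sheafToPresheaf _ _).map (m • 𝟙 F)).app U) = fun s : EtCoh.sect F U.unop => m • s := funext fun t =>
      let ev : (F ⟶ F) →+ F.obj.obj U := AddMonoidHom.mk' (fun a => a.hom.app U t) fun _ _ => rfl
      map_nsmul ev m (𝟙 F)
    rw [e]
    exact hF U.unop m hm
  haveI : IsIso ((sheafToPresheaf _ _).map (m • 𝟙 F)) := NatIso.isIso_of_isIso_app _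
  exact isIso_of_fully_faithful (sheafToPresheaf _ _) _

end Groth.Agent.DimFn3
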